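import Cfsg.Agent.H235.QS.O7M
import Cfsg.Agent.H235.Ore.EngNc

/-!
# Class representatives of `Ω₇(3)` under `SO₇(3)`: centralizers, orders, fixed points, part 1 (helper235)
-/

set_option autoImplicit false
set_option maxRecDepth 100000

namespace Cfsg.Agent.H235.QS.O7C

open Cfsg.Agent.H235.Ore.Eng Cfsg.Agent.H235.QS.O7M Subgroup Equiv

def x01 : List ℕ := [3, 5, 1]
def l01 : List Lv := [⟨245, [], [(1, 1)], [], 72⟩,
  ⟨166, [(245, 1), (369, 1)], [(1, 0)], [], 16⟩,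
  ⟨204, [(245, 1), (369, 1), (166, 1), (349, 0)], [(1, 0)], [], 3⟩,
  ⟨127, [(245, 1), (369, 1), (349, 1), (204, 1)], [(1, 0)], [], 2⟩,
  ⟨215, [(369, 1), (166, 1), (293, 1), (245, 0)], [], [], 2⟩,
  ⟨249, [(204, 1), (293, 1), (127, 1), (215, 0), (112, 1)], [(1, 0)], [], 2⟩,
  ⟨143, [(245, 1), (349, 1), (227, 1), (369, 0), (112, 0)], [], [], 1⟩,
  ⟨140, [(369, 1), (166, 1), (204, 1), (227, 1), (215, 0)], [(1, 0)], [], 1⟩,
  ⟨216, [(166, 1), (293, 1), (127, 1), (10, 1)], [(1, 0)], [], 1⟩,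
  ⟨26, [(140, 1), (245, 1), (369, 1), (216, 0)], [(1, 1)], [], 1⟩,
  ⟨272, [(369, 1), (166, 1), (127, 1), (245, 0), (215, 1)], [], [], 1⟩,
  ⟨290, [(204, 1), (10, 1), (143, 1), (15, 1), (218, 1)], [], [], 1⟩]
theorem b01 : Nat.card ↥(centralizer ({w2 x01} : Set ↥M2)) ≤ 27648 :=
  (bnd (X := x01) (l := l01) (m := 2) (by decide +kernel)).trans (by decide)
theorem o01 : orderOf (wd x01) = 2 := orderOf_eq (pv_pw _) (ps := [2]) (by norm_num) (by norm_num)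
  (by decide +kernel) (by norm_num)
theorem f01 : fixN (wd x01) = 18 := by
  rw [← pow_one (wd x01), fixN_pow (pv_pw _)]
  decide +kernel
theorem g01 : fixN (wd x01 ^ 2) = 378 := by
  rw [fixN_pow (pv_pw _)]
  decide +kernel
theorem a01 : adjN R (wd x01) = 72 := by
  rw [adjN_val (f := act x01) (act_eq x01)]
  decide +kernel

def x02 : List ℕ := [6, 5]
def l02 : List Lv := [⟨197, [], [(1, 0)], [], 160⟩,
  ⟨135, [(13, 1), (197, 0)], [(1, 0)], [], 27⟩,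
  ⟨374, [(135, 1), (132, 0), (13, 0), (197, 0)], [(1, 0)], [], 8⟩,
  ⟨322, [(197, 1), (135, 1), (374, 1), (13, 0)], [(1, 0)], [], 3⟩,
  ⟨361, [(13, 1), (135, 1), (374, 1), (229, 1)], [(1, 0)], [], 2⟩,
  ⟨306, [(13, 1), (135, 1), (229, 1)], [(1, 1)], [], 2⟩,
  ⟨143, [(197, 1), (80, 1), (361, 1), (229, 1), (306, 0)], [(1, 1)], [], 1⟩,
  ⟨140, [(374, 1), (229, 1), (157, 1), (306, 0), (13, 0)], [(1, 1)], [], 1⟩,
  ⟨216, [(132, 1), (374, 1), (158, 1), (229, 1), (81, 1)], [], [], 1⟩,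
  ⟨26, [(197, 1), (135, 1), (361, 1), (374, 0), (306, 1)], [(1, 1)], [], 1⟩,
  ⟨272, [(13, 1), (361, 1), (157, 1), (140, 1), (135, 0)], [], [], 1⟩,
  ⟨290, [(197, 1), (80, 1), (143, 1), (306, 1), (158, 1)], [], [], 1⟩]
theorem b02 : Nat.card ↥(centralizer ({w2 x02} : Set ↥M2)) ≤ 414720 :=
  (bnd (X := x02) (l := l02) (m := 2) (by decide +kernel)).trans (by decide)
theorem o02 : orderOf (wd x02) = 2 := orderOf_eq (pv_pw _) (ps := [2]) (by norm_num) (by norm_num)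
  (by decide +kernel) (by norm_num)
theorem f02 : fixN (wd x02) = 38 := by
  rw [← pow_one (wd x02), fixN_pow (pv_pw _)]
  decide +kernel
theorem g02 : fixN (wd x02 ^ 2) = 378 := by
  rw [fixN_pow (pv_pw _)]
  decide +kernel
theorem a02 : adjN R (wd x02) = 180 := by
  rw [adjN_val (f := act x02) (act_eq x02)]
  decide +kernel

def x03 : List ℕ := [6]
def l03 : List Lv := [⟨286, [], [(1, 2)], [], 126⟩,
  ⟨137, [(286, 1)], [(1, 2)], [], 45⟩,
  ⟨215, [(286, 1), (137, 1)], [(1, 2)], [], 12⟩,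
  ⟨357, [(286, 1), (137, 1), (215, 1)], [(1, 2)], [], 3⟩,
  ⟨115, [(286, 1), (137, 1), (215, 0), (357, 0)], [(1, 1)], [], 4⟩,
  ⟨256, [(137, 1), (357, 1), (329, 1), (286, 0)], [], [], 2⟩,
  ⟨140, [(286, 0), (137, 0), (215, 0), (357, 0), (115, 0), (256, 0)], [(1, 2)], [], 2⟩,
  ⟨201, [(357, 1), (115, 1), (256, 1), (140, 1)], [(1, 1)], [], 4⟩,
  ⟨246, [(86, 1), (26, 1), (357, 0), (286, 0), (215, 0), (115, 0), (137, 0)], [], [], 2⟩,
  ⟨143, [(246, 1), (286, 0), (137, 0), (215, 0), (357, 0), (256, 0)], [(1, 2)], [], 1⟩,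
  ⟨216, [(329, 1), (256, 1), (201, 1), (246, 1), (137, 0)], [], [], 1⟩,
  ⟨272, [(215, 1), (357, 1), (86, 1), (137, 0), (140, 1)], [], [], 1⟩,
  ⟨290, [(286, 1), (246, 1), (115, 0), (140, 0), (357, 0)], [(1, 2)], [], 1⟩]
theorem b03 : Nat.card ↥(centralizer ({w2 x03} : Set ↥M2)) ≤ 26127360 :=
  (bnd (X := x03) (l := l03) (m := 2) (by decide +kernel)).trans (by decide)
theorem o03 : orderOf (wd x03) = 2 := orderOf_eq (pv_pw _) (ps := [2]) (by norm_num) (by norm_num)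
  (by decide +kernel) (by norm_num)
theorem f03 : fixN (wd x03) = 126 := by
  rw [← pow_one (wd x03), fixN_pow (pv_pw _)]
  decide +kernel
theorem g03 : fixN (wd x03 ^ 2) = 378 := by
  rw [fixN_pow (pv_pw _)]
  decide +kernel
theorem a03 : adjN R (wd x03) = 252 := by
  rw [adjN_val (f := act x03) (act_eq x03)]
  decide +kernel

def x04 : List ℕ := [4, 3, 2, 6, 1, 5, 0, 4, 3, 2, 6, 1, 5, 0, 4, 3, 2, 6, 1, 5, 0]
def l04 : List Lv := [⟨174, [(51, 1), (3, 0), (152, 0)], [], [⟨[(51, 1), (3, 0), (152, 0)], [], [374, 371, 368, 357, 346, 338, 330, 326, 305, 302, 299, 293, 287, 281, 273, 269, 265, 253, 244, 223, 220, 217, 208, 199, 196, 194, 186, 174, 173, 169, 161, 160, 159, 149, 148, 147, 134, 131, 128, 114, 112, 100, 91, 87, 80, 66, 64, 42, 39, 36, 34, 27, 22, 14, 2, 1, 0], 18⟩], 24⟩,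
  ⟨195, [(3, 1), (152, 1), (107, 1), (51, 0), (174, 0)], [], [], 3⟩,
  ⟨143, [(174, 1), (230, 1), (195, 1), (3, 0), (51, 0), (106, 0)], [], [], 1⟩,
  ⟨140, [(230, 1), (107, 1), (106, 1), (152, 0), (174, 0), (288, 0), (143, 0)], [], [], 1⟩,
  ⟨216, [(174, 1), (230, 1), (3, 0), (288, 0), (125, 0), (222, 0), (312, 0), (106, 0)], [], [], 1⟩,
  ⟨26, [(3, 1), (51, 1), (140, 1), (106, 1), (151, 1)], [], [], 1⟩,
  ⟨272, [(3, 1), (230, 1), (125, 1), (288, 1), (222, 1)], [], [], 1⟩,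
  ⟨290, [(152, 1), (174, 1), (222, 1), (230, 1), (143, 1)], [], [], 1⟩]
theorem b04 : Nat.card ↥(centralizer ({w2 x04} : Set ↥M2)) ≤ 17496 :=
  (bnd3 (X := x04) (l := l04) (m := 3) (p := 3) (a := 243) (v := 12) (by norm_num) (by decide +kernel)
  (by decide +kernel) (by decide +kernel)).trans (by decide)
theorem o04 : orderOf (wd x04) = 3 := orderOf_eq (pv_pw _) (ps := [3]) (by norm_num) (by norm_num)
  (by decide +kernel) (by norm_num)
theorem f04 : fixN (wd x04) = 0 := by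
  rw [← pow_one (wd x04), fixN_pow (pv_pw _)]
  decide +kernel
theorem g04 : fixN (wd x04 ^ 2) = 0 := by
  rw [fixN_pow (pv_pw _)]
  decide +kernel
theorem a04 : adjN R (wd x04) = 0 := by
  rw [adjN_val (f := act x04) (act_eq x04)]
  decide +kernel

def x05 : List ℕ := [4, 6, 7, 3]
def l05 : List Lv := [⟨302, [], [(1, 1)], [], 162⟩,
  ⟨140, [(302, 1), (154, 1), (143, 0)], [(1, 1)], [], 2⟩,
  ⟨249, [(143, 1), (154, 1), (299, 1), (302, 0)], [], [], 9⟩,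
  ⟨111, [(299, 1), (143, 0), (140, 0), (302, 0), (155, 0), (199, 0), (192, 0)], [(1, 0)], [], 2⟩,
  ⟨216, [(192, 1), (167, 1), (302, 0), (111, 0), (17, 0), (154, 0)], [(1, 1)], [], 1⟩,
  ⟨26, [(140, 1), (155, 1), (126, 1), (249, 0), (17, 0)], [(1, 1)], [], 1⟩,
  ⟨272, [(140, 1), (249, 1), (2, 1), (199, 1), (167, 1)], [], [], 1⟩,
  ⟨290, [(143, 1), (154, 1), (167, 1), (302, 0), (249, 0), (272, 0)], [], [], 1⟩]
theorem b05 : Nat.card ↥(centralizer ({w2 x05} : Set ↥M2)) ≤ 5832 :=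
  (bnd (X := x05) (l := l05) (m := 3) (by decide +kernel)).trans (by decide)
theorem o05 : orderOf (wd x05) = 3 := orderOf_eq (pv_pw _) (ps := [3]) (by norm_num) (by norm_num)
  (by decide +kernel) (by norm_num)
theorem f05 : fixN (wd x05) = 0 := by
  rw [← pow_one (wd x05), fixN_pow (pv_pw _)]
  decide +kernel
theorem g05 : fixN (wd x05 ^ 2) = 0 := by
  rw [fixN_pow (pv_pw _)]
  decide +kernel
theorem a05 : adjN R (wd x05) = 162 := by
  rw [adjN_val (f := act x05) (act_eq x05)]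
  decide +kernel

def x06 : List ℕ := [0, 4, 6, 7, 5, 1]
def l06 : List Lv := [⟨219, [], [(1, 1)], [], 81⟩,
  ⟨319, [(219, 1), (56, 1), (318, 0)], [(1, 1)], [], 2⟩,
  ⟨343, [(219, 1), (56, 0), (55, 0), (216, 0), (318, 0), (319, 0)], [], [], 9⟩,
  ⟨377, [(219, 1), (319, 1), (96, 1), (290, 1)], [(1, 0)], [], 2⟩,
  ⟨143, [(56, 1), (55, 1), (343, 1), (290, 1), (364, 1)], [], [], 1⟩,
  ⟨140, [(56, 1), (55, 1), (377, 1), (343, 0), (290, 0)], [(1, 0)], [], 1⟩,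
  ⟨26, [(219, 1), (55, 1), (343, 1), (356, 1), (377, 0)], [], [], 1⟩,
  ⟨272, [(319, 1), (55, 1), (140, 1), (125, 1), (211, 1)], [], [], 1⟩]
theorem b06 : Nat.card ↥(centralizer ({w2 x06} : Set ↥M2)) ≤ 2916 :=
  (bnd (X := x06) (l := l06) (m := 3) (by decide +kernel)).trans (by decide)
theorem o06 : orderOf (wd x06) = 3 := orderOf_eq (pv_pw _) (ps := [3]) (by norm_num) (by norm_num)
  (by decide +kernel) (by norm_num)
theorem f06 : fixN (wd x06) = 9 := by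
  rw [← pow_one (wd x06), fixN_pow (pv_pw _)]
  decide +kernel
theorem g06 : fixN (wd x06 ^ 2) = 9 := by
  rw [fixN_pow (pv_pw _)]
  decide +kernel
theorem a06 : adjN R (wd x06) = 81 := by
  rw [adjN_val (f := act x06) (act_eq x06)]
  decide +kernel

def x07 : List ℕ := [0, 1, 7, 6]
def l07 : List Lv := [⟨127, [], [(1, 2)], [], 36⟩,
  ⟨217, [(127, 1)], [(1, 2)], [], 9⟩,
  ⟨58, [(127, 1), (217, 1)], [(1, 2)], [], 6⟩,
  ⟨273, [(127, 1), (217, 1), (58, 0)], [(1, 0)], [], 18⟩,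
  ⟨175, [(127, 1), (58, 1), (273, 1), (217, 0)], [], [], 2⟩,
  ⟨26, [(217, 1), (350, 1), (127, 0), (175, 0), (205, 0), (58, 0), (273, 0), (111, 0)], [], [], 2⟩,
  ⟨342, [(127, 1), (58, 1), (193, 1), (175, 1), (205, 1)], [(1, 0)], [], 2⟩,
  ⟨143, [(58, 1), (350, 1), (175, 1), (111, 0), (193, 1), (342, 1)], [], [], 1⟩,
  ⟨216, [(127, 1), (273, 1), (110, 1), (193, 1), (217, 0), (26, 0)], [], [], 1⟩,
  ⟨272, [(127, 1), (350, 1), (342, 1), (14, 1), (217, 0)], [], [], 1⟩,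
  ⟨290, [(273, 1), (350, 1), (342, 1), (175, 1), (193, 1)], [], [], 1⟩]
theorem b07 : Nat.card ↥(centralizer ({w2 x07} : Set ↥M2)) ≤ 279936 :=
  (bnd (X := x07) (l := l07) (m := 3) (by decide +kernel)).trans (by decide)
theorem o07 : orderOf (wd x07) = 3 := orderOf_eq (pv_pw _) (ps := [3]) (by norm_num) (by norm_num)
  (by decide +kernel) (by norm_num)
theorem f07 : fixN (wd x07) = 36 := by
  rw [← pow_one (wd x07), fixN_pow (pv_pw _)]
  decide +kernel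
theorem g07 : fixN (wd x07 ^ 2) = 36 := by
  rw [fixN_pow (pv_pw _)]
  decide +kernel
theorem a07 : adjN R (wd x07) = 0 := by
  rw [adjN_val (f := act x07) (act_eq x07)]
  decide +kernel

def x08 : List ℕ := [4, 5]
def l08 : List Lv := [⟨296, [], [(1, 1)], [], 243⟩,
  ⟨210, [(104, 1)], [(1, 0)], [], 30⟩,
  ⟨74, [(296, 1), (329, 1), (210, 1), (104, 0)], [], [], 8⟩,
  ⟨79, [(329, 1), (213, 1), (296, 0), (104, 0), (359, 0), (74, 0)], [(1, 1)], [], 3⟩,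
  ⟨114, [(104, 1), (210, 1), (359, 1), (266, 1), (79, 1)], [], [], 2⟩,
  ⟨143, [(296, 1), (74, 1), (342, 1)], [(1, 0)], [], 1⟩,
  ⟨140, [(104, 1), (266, 1), (265, 1), (210, 0), (114, 0)], [(1, 0)], [], 1⟩,
  ⟨216, [(329, 1), (210, 1), (74, 1), (266, 1), (354, 1)], [], [], 1⟩,
  ⟨26, [(140, 1), (296, 1), (74, 0)], [(1, 2)], [], 1⟩,
  ⟨290, [(210, 1), (79, 1), (342, 1), (143, 1), (131, 1)], [], [], 1⟩]
theorem b08 : Nat.card ↥(centralizer ({w2 x08} : Set ↥M2)) ≤ 349920 :=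
  (bnd (X := x08) (l := l08) (m := 3) (by decide +kernel)).trans (by decide)
theorem o08 : orderOf (wd x08) = 3 := orderOf_eq (pv_pw _) (ps := [3]) (by norm_num) (by norm_num)
  (by decide +kernel) (by norm_num)
theorem f08 : fixN (wd x08) = 45 := by
  rw [← pow_one (wd x08), fixN_pow (pv_pw _)]
  decide +kernel
theorem g08 : fixN (wd x08 ^ 2) = 45 := by
  rw [fixN_pow (pv_pw _)]
  decide +kernel
theorem a08 : adjN R (wd x08) = 243 := by
  rw [adjN_val (f := act x08) (act_eq x08)]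
  decide +kernel

def x09 : List ℕ := [0, 7, 1, 2, 3, 6, 0, 7, 1, 2, 3, 6, 0, 7, 1, 2, 3, 6, 0, 7, 1, 2, 3, 6]
def l09 : List Lv := [⟨281, [], [(1, 0)], [], 324⟩,
  ⟨322, [(112, 1), (281, 0)], [], [], 81⟩,
  ⟨57, [(112, 1), (322, 1), (140, 1)], [(1, 0)], [], 6⟩,
  ⟨373, [(140, 1), (300, 1), (160, 0), (281, 0), (112, 0)], [(1, 0)], [], 4⟩,
  ⟨370, [(160, 1), (140, 1), (57, 1), (311, 1)], [(1, 0)], [], 2⟩,
  ⟨143, [(160, 1), (57, 1), (247, 1), (300, 1), (28, 1)], [], [], 1⟩,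
  ⟨216, [(45, 1), (157, 1), (247, 1), (373, 1), (311, 1)], [], [], 1⟩,
  ⟨26, [(281, 1), (140, 1), (197, 1), (57, 1), (311, 1)], [], [], 1⟩,
  ⟨272, [(140, 1), (157, 1), (373, 1), (311, 1)], [(1, 0)], [], 1⟩,
  ⟨290, [(281, 1), (45, 1), (57, 1), (28, 1), (143, 1)], [], [], 1⟩]
theorem b09 : Nat.card ↥(centralizer ({w2 x09} : Set ↥M2)) ≤ 1259712 :=
  (bnd (X := x09) (l := l09) (m := 3) (by decide +kernel)).trans (by decide)
theorem o09 : orderOf (wd x09) = 3 := orderOf_eq (pv_pw _) (ps := [3]) (by norm_num) (by norm_num)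
  (by decide +kernel) (by norm_num)
theorem f09 : fixN (wd x09) = 54 := by
  rw [← pow_one (wd x09), fixN_pow (pv_pw _)]
  decide +kernel
theorem g09 : fixN (wd x09 ^ 2) = 54 := by
  rw [fixN_pow (pv_pw _)]
  decide +kernel
theorem a09 : adjN R (wd x09) = 0 := by
  rw [adjN_val (f := act x09) (act_eq x09)]
  decide +kernel

def x10 : List ℕ := [3, 2, 5, 3, 1, 2, 6]
def l10 : List Lv := [⟨202, [], [(1, 1), (2, 0)], [], 128⟩,
  ⟨74, [(202, 1), (5, 1), (75, 0), (44, 0)], [(1, 0), (2, 0)], [], 6⟩,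
  ⟨143, [(75, 1), (74, 1), (5, 0), (44, 0), (358, 0)], [(1, 1)], [], 1⟩,
  ⟨140, [(202, 1), (26, 1), (274, 1), (74, 0), (75, 0), (176, 0)], [(1, 0)], [], 1⟩,
  ⟨216, [(202, 1), (74, 1), (176, 1), (274, 1), (357, 0)], [], [], 1⟩,
  ⟨272, [(75, 1), (74, 1), (140, 1), (358, 1), (357, 1)], [], [], 1⟩,
  ⟨290, [(202, 1), (44, 1), (246, 1), (358, 1)], [(1, 1)], [], 1⟩]
theorem b10 : Nat.card ↥(centralizer ({w2 x10} : Set ↥M2)) ≤ 768 :=
  (bnd (X := x10) (l := l10) (m := 4) (by decide +kernel)).trans (by decide)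
theorem o10 : orderOf (wd x10) = 4 := orderOf_eq (pv_pw _) (ps := [2]) (by norm_num) (by norm_num)
  (by decide +kernel) (by norm_num)
theorem f10 : fixN (wd x10) = 2 := by
  rw [← pow_one (wd x10), fixN_pow (pv_pw _)]
  decide +kernel
theorem g10 : fixN (wd x10 ^ 2) = 18 := by
  rw [fixN_pow (pv_pw _)]
  decide +kernel
theorem a10 : adjN R (wd x10) = 144 := by
  rw [adjN_val (f := act x10) (act_eq x10)]
  decide +kernel

def x11 : List ℕ := [7, 6, 0, 2]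
def l11 : List Lv := [⟨265, [], [(1, 1), (2, 1)], [], 24⟩,
  ⟨309, [(265, 1)], [(1, 2)], [], 2⟩,
  ⟨341, [(66, 1), (377, 1), (309, 1)], [(2, 0), (1, 0)], [], 2⟩,
  ⟨89, [(247, 1), (265, 0), (39, 0), (66, 0), (309, 0)], [(2, 0), (1, 0)], [], 2⟩,
  ⟨65, [(309, 1), (113, 1), (89, 1), (265, 0)], [(2, 1)], [], 2⟩,
  ⟨143, [(247, 1), (346, 1), (305, 1), (309, 0), (369, 0)], [(2, 1)], [], 1⟩,
  ⟨140, [(265, 1), (66, 1), (341, 1), (309, 0), (374, 1)], [], [], 1⟩,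
  ⟨216, [(265, 1), (309, 1), (65, 1), (113, 0)], [(2, 0)], [], 1⟩,
  ⟨26, [(39, 1), (369, 1), (186, 1), (374, 0)], [(1, 1)], [], 1⟩,
  ⟨272, [(265, 1), (39, 1), (113, 1), (309, 0), (286, 0)], [], [], 1⟩,
  ⟨290, [(39, 1), (66, 1), (270, 1), (377, 1), (341, 0)], [], [], 1⟩]
theorem b11 : Nat.card ↥(centralizer ({w2 x11} : Set ↥M2)) ≤ 384 :=
  (bnd (X := x11) (l := l11) (m := 4) (by decide +kernel)).trans (by decide)
theorem o11 : orderOf (wd x11) = 4 := orderOf_eq (pv_pw _) (ps := [2]) (by norm_num) (by norm_num)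
  (by decide +kernel) (by norm_num)
theorem f11 : fixN (wd x11) = 4 := by
  rw [← pow_one (wd x11), fixN_pow (pv_pw _)]
  decide +kernel
theorem g11 : fixN (wd x11 ^ 2) = 38 := by
  rw [fixN_pow (pv_pw _)]
  decide +kernel
theorem a11 : adjN R (wd x11) = 126 := by
  rw [adjN_val (f := act x11) (act_eq x11)]
  decide +kernel

def x12 : List ℕ := [3, 6, 2, 3, 1, 2]
def l12 : List Lv := [⟨148, [], [(2, 1)], [], 72⟩,
  ⟨192, [(367, 1), (109, 1)], [(1, 1), (2, 0)], [], 4⟩,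
  ⟨233, [(109, 1), (72, 1), (148, 0), (367, 0)], [(1, 1)], [], 8⟩,
  ⟨143, [(304, 1), (367, 1), (233, 1), (192, 1), (364, 1)], [], [], 1⟩,
  ⟨140, [(304, 1), (338, 1), (165, 1)], [(1, 1)], [], 1⟩,
  ⟨26, [(148, 1), (109, 1), (338, 1), (3, 1), (285, 1)], [], [], 1⟩,
  ⟨272, [(304, 1), (109, 1), (192, 1), (285, 1), (357, 1)], [], [], 1⟩,
  ⟨290, [(148, 1), (143, 1), (299, 1), (159, 1), (285, 0)], [], [], 1⟩]
theorem b12 : Nat.card ↥(centralizer ({w2 x12} : Set ↥M2)) ≤ 2304 :=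
  (bnd (X := x12) (l := l12) (m := 4) (by decide +kernel)).trans (by decide)
theorem o12 : orderOf (wd x12) = 4 := orderOf_eq (pv_pw _) (ps := [2]) (by norm_num) (by norm_num)
  (by decide +kernel) (by norm_num)
theorem f12 : fixN (wd x12) = 6 := by
  rw [← pow_one (wd x12), fixN_pow (pv_pw _)]
  decide +kernel
theorem g12 : fixN (wd x12 ^ 2) = 18 := by
  rw [fixN_pow (pv_pw _)]
  decide +kernel
theorem a12 : adjN R (wd x12) = 108 := by
  rw [adjN_val (f := act x12) (act_eq x12)]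
  decide +kernel

def x13 : List ℕ := [6, 2, 7]
def l13 : List Lv := [⟨334, [], [(1, 1), (2, 1)], [], 120⟩,
  ⟨77, [(334, 0), (224, 0)], [(2, 2), (1, 0)], [], 8⟩,
  ⟨161, [(334, 1), (272, 1), (77, 1), (224, 0)], [(1, 1)], [], 3⟩,
  ⟨140, [(334, 1), (272, 1), (273, 1), (224, 0), (161, 1)], [(1, 1)], [], 2⟩,
  ⟨143, [(77, 1), (161, 1), (14, 0), (203, 0), (224, 0)], [(1, 1)], [], 1⟩,
  ⟨216, [(101, 1), (273, 1), (184, 1), (272, 0)], [(2, 0)], [], 1⟩,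
  ⟨26, [(224, 1), (77, 1), (197, 1), (161, 1)], [(2, 0)], [], 1⟩,
  ⟨290, [(101, 1), (273, 1), (143, 1)], [(1, 1)], [], 1⟩]
theorem b13 : Nat.card ↥(centralizer ({w2 x13} : Set ↥M2)) ≤ 5760 :=
  (bnd (X := x13) (l := l13) (m := 4) (by decide +kernel)).trans (by decide)
theorem o13 : orderOf (wd x13) = 4 := orderOf_eq (pv_pw _) (ps := [2]) (by norm_num) (by norm_num)
  (by decide +kernel) (by norm_num)
theorem f13 : fixN (wd x13) = 16 := by
  rw [← pow_one (wd x13), fixN_pow (pv_pw _)]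
  decide +kernel
theorem g13 : fixN (wd x13 ^ 2) = 38 := by
  rw [fixN_pow (pv_pw _)]
  decide +kernel
theorem a13 : adjN R (wd x13) = 162 := by
  rw [adjN_val (f := act x13) (act_eq x13)]
  decide +kernel

def x14 : List ℕ := [1, 2, 6, 7]
def l14 : List Lv := [⟨164, [], [(1, 1), (2, 1)], [], 60⟩,
  ⟨79, [(164, 1), (122, 1), (19, 1)], [(2, 0), (1, 1)], [], 2⟩,
  ⟨140, [(164, 1), (153, 1), (200, 1), (19, 1), (356, 0), (122, 0)], [], [], 2⟩,
  ⟨143, [(153, 1), (79, 1), (159, 1), (311, 0), (356, 0)], [(1, 0)], [], 1⟩,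
  ⟨216, [(19, 1), (329, 1), (129, 1), (356, 1)], [(2, 0)], [], 1⟩,
  ⟨26, [(122, 1), (329, 1), (356, 1), (311, 1), (140, 1)], [], [], 1⟩,
  ⟨272, [(153, 1), (79, 1), (188, 1), (311, 1), (25, 1)], [], [], 1⟩]
theorem b14 : Nat.card ↥(centralizer ({w2 x14} : Set ↥M2)) ≤ 240 :=
  (bnd (X := x14) (l := l14) (m := 5) (by decide +kernel)).trans (by decide)
theorem o14 : orderOf (wd x14) = 5 := orderOf_eq (pv_pw _) (ps := [5]) (by norm_num) (by norm_num)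
  (by decide +kernel) (by norm_num)
theorem f14 : fixN (wd x14) = 3 := by
  rw [← pow_one (wd x14), fixN_pow (pv_pw _)]
  decide +kernel
theorem g14 : fixN (wd x14 ^ 2) = 3 := by
  rw [fixN_pow (pv_pw _)]
  decide +kernel
theorem a14 : adjN R (wd x14) = 135 := by
  rw [adjN_val (f := act x14) (act_eq x14)]
  decide +kernel

def x15 : List ℕ := [2, 1, 0, 4, 6, 3, 2, 1, 0, 4, 6, 3]
def l15 : List Lv := [⟨298, [], [(1, 1)], [], 72⟩,
  ⟨300, [(136, 1), (85, 1), (284, 1), (116, 1)], [], [], 3⟩,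
  ⟨143, [(298, 1), (290, 1), (300, 1), (158, 1)], [(3, 1)], [], 1⟩,
  ⟨140, [(298, 1), (300, 1), (158, 1), (100, 1), (262, 1)], [], [], 1⟩,
  ⟨216, [(100, 1), (126, 1), (116, 0)], [(1, 1)], [], 1⟩,
  ⟨26, [(158, 1), (126, 1), (295, 1), (140, 1), (316, 1)], [], [], 1⟩,
  ⟨272, [(284, 1), (238, 1), (257, 1), (216, 0), (290, 0)], [], [], 1⟩]
theorem b15 : Nat.card ↥(centralizer ({w2 x15} : Set ↥M2)) ≤ 216 :=
  (bnd (X := x15) (l := l15) (m := 6) (by decide +kernel)).trans (by decide)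
theorem o15 : orderOf (wd x15) = 6 := orderOf_eq (pv_pw _) (ps := [2, 3]) (by norm_num) (by norm_num)
  (by decide +kernel) (by norm_num)
theorem f15 : fixN (wd x15) = 0 := by
  rw [← pow_one (wd x15), fixN_pow (pv_pw _)]
  decide +kernel
theorem g15 : fixN (wd x15 ^ 2) = 0 := by
  rw [fixN_pow (pv_pw _)]
  decide +kernel
theorem a15 : adjN R (wd x15) = 72 := by
  rw [adjN_val (f := act x15) (act_eq x15)]
  decide +kernel

def x16 : List ℕ := [6, 4, 3, 7, 1]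
def l16 : List Lv := [⟨38, [], [(1, 1), (2, 0)], [], 36⟩,
  ⟨290, [(44, 1), (57, 1)], [(2, 0)], [], 18⟩,
  ⟨143, [(58, 1), (59, 1), (290, 1), (74, 1), (86, 0)], [(1, 0)], [], 1⟩,
  ⟨140, [(58, 1), (59, 1), (302, 1), (143, 0), (86, 0)], [], [], 1⟩,
  ⟨216, [(74, 1), (38, 0), (143, 0), (302, 0), (290, 0), (86, 0), (125, 0)], [(1, 1), (2, 1)], [], 1⟩,
  ⟨26, [(44, 1), (57, 1), (86, 1), (270, 1), (140, 1)], [], [], 1⟩,
  ⟨272, [(41, 1), (59, 1), (125, 1), (86, 1), (74, 1)], [], [], 1⟩]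
theorem b16 : Nat.card ↥(centralizer ({w2 x16} : Set ↥M2)) ≤ 648 :=
  (bnd (X := x16) (l := l16) (m := 6) (by decide +kernel)).trans (by decide)
theorem o16 : orderOf (wd x16) = 6 := orderOf_eq (pv_pw _) (ps := [2, 3]) (by norm_num) (by norm_num)
  (by decide +kernel) (by norm_num)
theorem f16 : fixN (wd x16) = 0 := by
  rw [← pow_one (wd x16), fixN_pow (pv_pw _)]
  decide +kernel
theorem g16 : fixN (wd x16 ^ 2) = 0 := by
  rw [fixN_pow (pv_pw _)]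
  decide +kernel
theorem a16 : adjN R (wd x16) = 90 := by
  rw [adjN_val (f := act x16) (act_eq x16)]
  decide +kernel

def x17 : List ℕ := [4, 3, 2, 5, 6]
def l17 : List Lv := [⟨271, [], [(3, 1), (1, 1)], [], 54⟩,
  ⟨99, [(167, 1), (140, 1), (271, 0), (19, 1)], [(1, 1)], [], 2⟩,
  ⟨143, [(229, 1), (167, 0), (303, 1), (69, 0), (126, 0)], [(3, 1)], [], 1⟩,
  ⟨216, [(167, 1), (19, 1), (273, 1), (140, 0)], [(2, 1)], [], 1⟩,
  ⟨26, [(140, 1), (99, 1), (303, 1), (167, 0)], [(1, 0)], [], 1⟩,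
  ⟨272, [(167, 1), (140, 1), (75, 1), (126, 1), (69, 1)], [], [], 1⟩,
  ⟨290, [(167, 1), (273, 1), (143, 1), (126, 1), (303, 1)], [], [], 1⟩]
theorem b17 : Nat.card ↥(centralizer ({w2 x17} : Set ↥M2)) ≤ 108 :=
  (bnd (X := x17) (l := l17) (m := 6) (by decide +kernel)).trans (by decide)
theorem o17 : orderOf (wd x17) = 6 := orderOf_eq (pv_pw _) (ps := [2, 3]) (by norm_num) (by norm_num)
  (by decide +kernel) (by norm_num)
theorem f17 : fixN (wd x17) = 0 := by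
  rw [← pow_one (wd x17), fixN_pow (pv_pw _)]
  decide +kernel
theorem g17 : fixN (wd x17 ^ 2) = 0 := by
  rw [fixN_pow (pv_pw _)]
  decide +kernel
theorem a17 : adjN R (wd x17) = 126 := by
  rw [adjN_val (f := act x17) (act_eq x17)]
  decide +kernel

def x18 : List ℕ := [3, 6, 7, 6, 5, 0, 5, 6, 5, 1, 2, 3, 6, 1, 2, 7, 1]
def l18 : List Lv := [⟨344, [], [(3, 0), (2, 0)], [], 144⟩,
  ⟨257, [(185, 1), (225, 1)], [(1, 1)], [], 18⟩,
  ⟨262, [(185, 1), (225, 1), (136, 1), (177, 1), (344, 0)], [], [], 2⟩,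
  ⟨143, [(344, 1), (301, 1), (257, 0), (262, 0)], [(2, 2), (1, 1)], [], 1⟩,
  ⟨140, [(225, 1), (26, 1), (301, 1), (370, 1), (187, 0)], [], [], 1⟩,
  ⟨216, [(74, 1), (185, 1), (257, 1), (293, 1), (40, 0)], [], [], 1⟩,
  ⟨272, [(150, 1), (74, 1), (40, 1), (257, 1), (261, 1)], [], [], 1⟩,
  ⟨290, [(185, 1), (225, 1), (187, 1), (301, 1), (136, 1)], [], [], 1⟩]
theorem b18 : Nat.card ↥(centralizer ({w2 x18} : Set ↥M2)) ≤ 5184 :=
  (bnd (X := x18) (l := l18) (m := 6) (by decide +kernel)).trans (by decide)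
theorem o18 : orderOf (wd x18) = 6 := orderOf_eq (pv_pw _) (ps := [2, 3]) (by norm_num) (by norm_num)
  (by decide +kernel) (by norm_num)
theorem f18 : fixN (wd x18) = 2 := by
  rw [← pow_one (wd x18), fixN_pow (pv_pw _)]
  decide +kernel
theorem g18 : fixN (wd x18 ^ 2) = 54 := by
  rw [fixN_pow (pv_pw _)]
  decide +kernel
theorem a18 : adjN R (wd x18) = 180 := by
  rw [adjN_val (f := act x18) (act_eq x18)]
  decide +kernel

def x19 : List ℕ := [6, 4, 0, 1, 2, 7, 5]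
def l19 : List Lv := [⟨302, [], [(2, 1), (1, 0)], [], 54⟩,
  ⟨185, [(302, 1), (261, 1), (219, 0), (108, 0), (259, 0)], [(1, 1)], [], 2⟩,
  ⟨143, [(302, 1), (177, 1), (185, 0), (261, 0), (219, 0), (204, 0), (152, 0), (287, 0)], [], [], 1⟩,
  ⟨140, [(302, 1), (261, 1), (26, 1), (204, 1), (168, 1)], [], [], 1⟩,
  ⟨216, [(108, 1), (167, 1), (132, 1)], [(1, 1), (2, 0)], [], 1⟩,
  ⟨272, [(261, 1), (204, 1), (26, 0)], [(2, 1), (1, 0)], [], 1⟩,
  ⟨290, [(185, 1), (261, 1), (259, 1), (108, 0)], [(3, 1)], [], 1⟩]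
theorem b19 : Nat.card ↥(centralizer ({w2 x19} : Set ↥M2)) ≤ 108 :=
  (bnd (X := x19) (l := l19) (m := 6) (by decide +kernel)).trans (by decide)
theorem o19 : orderOf (wd x19) = 6 := orderOf_eq (pv_pw _) (ps := [2, 3]) (by norm_num) (by norm_num)
  (by decide +kernel) (by norm_num)
theorem f19 : fixN (wd x19) = 3 := by
  rw [← pow_one (wd x19), fixN_pow (pv_pw _)]
  decide +kernel
theorem g19 : fixN (wd x19 ^ 2) = 9 := by
  rw [fixN_pow (pv_pw _)]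
  decide +kernel
theorem a19 : adjN R (wd x19) = 99 := by
  rw [adjN_val (f := act x19) (act_eq x19)]
  decide +kernel

def x20 : List ℕ := [1, 6, 5, 4]
def l20 : List Lv := [⟨51, [], [(3, 1), (1, 0)], [], 108⟩,
  ⟨358, [(221, 1), (299, 1), (234, 1)], [(1, 0)], [], 4⟩,
  ⟨324, [(221, 1), (85, 1), (80, 1)], [(3, 0), (2, 1)], [], 2⟩,
  ⟨143, [(299, 1), (61, 1), (251, 1)], [(2, 0)], [], 1⟩,
  ⟨140, [(157, 1), (299, 1), (272, 1)], [(2, 0), (1, 1)], [], 1⟩,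
  ⟨216, [(374, 1), (99, 1), (131, 1), (157, 1), (134, 1)], [], [], 1⟩,
  ⟨26, [(140, 1), (51, 1), (241, 1)], [(2, 2)], [], 1⟩,
  ⟨290, [(299, 1), (358, 1), (251, 1), (317, 0)], [(1, 0)], [], 1⟩]
theorem b20 : Nat.card ↥(centralizer ({w2 x20} : Set ↥M2)) ≤ 864 :=
  (bnd (X := x20) (l := l20) (m := 6) (by decide +kernel)).trans (by decide)
theorem o20 : orderOf (wd x20) = 6 := orderOf_eq (pv_pw _) (ps := [2, 3]) (by norm_num) (by norm_num)
  (by decide +kernel) (by norm_num)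
theorem f20 : fixN (wd x20) = 5 := by
  rw [← pow_one (wd x20), fixN_pow (pv_pw _)]
  decide +kernel
theorem g20 : fixN (wd x20 ^ 2) = 45 := by
  rw [fixN_pow (pv_pw _)]
  decide +kernel
theorem a20 : adjN R (wd x20) = 99 := by
  rw [adjN_val (f := act x20) (act_eq x20)]
  decide +kernel

def x21 : List ℕ := [0, 7, 1, 2, 3, 6, 0, 7, 1, 2, 3, 6]
def l21 : List Lv := [⟨360, [], [(1, 1)], [], 72⟩,
  ⟨333, [(298, 1), (142, 1)], [(1, 1)], [], 12⟩,
  ⟨272, [(265, 1), (188, 1), (74, 1), (177, 1)], [(3, 0)], [], 2⟩,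
  ⟨143, [(360, 1), (298, 1), (74, 1), (177, 1), (272, 0)], [], [], 1⟩,
  ⟨216, [(265, 1), (283, 1), (47, 1), (130, 1), (74, 1)], [], [], 1⟩,
  ⟨26, [(142, 1), (283, 1), (74, 0)], [(1, 1)], [], 1⟩,
  ⟨290, [(23, 1), (220, 1), (235, 1), (95, 1), (143, 1)], [], [], 1⟩]
theorem b21 : Nat.card ↥(centralizer ({w2 x21} : Set ↥M2)) ≤ 1728 :=
  (bnd (X := x21) (l := l21) (m := 6) (by decide +kernel)).trans (by decide)
theorem o21 : orderOf (wd x21) = 6 := orderOf_eq (pv_pw _) (ps := [2, 3]) (by norm_num) (by norm_num)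
  (by decide +kernel) (by norm_num)
theorem f21 : fixN (wd x21) = 6 := by
  rw [← pow_one (wd x21), fixN_pow (pv_pw _)]
  decide +kernel
theorem g21 : fixN (wd x21 ^ 2) = 54 := by
  rw [fixN_pow (pv_pw _)]
  decide +kernel
theorem a21 : adjN R (wd x21) = 72 := by
  rw [adjN_val (f := act x21) (act_eq x21)]
  decide +kernel

def x22 : List ℕ := [6, 1, 0, 7, 2, 4]
def l22 : List Lv := [⟨26, [], [(2, 2), (1, 0)], [], 12⟩,
  ⟨302, [(214, 1), (26, 0)], [(1, 0), (3, 0)], [], 18⟩,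
  ⟨82, [(26, 1), (214, 1), (353, 1), (46, 1)], [(1, 0)], [], 2⟩,
  ⟨123, [(214, 1), (353, 1), (45, 1), (46, 1)], [(1, 1)], [], 2⟩,
  ⟨143, [(302, 1), (299, 1), (153, 1), (140, 0)], [(1, 0)], [], 1⟩,
  ⟨216, [(46, 1), (45, 1), (99, 1), (82, 1)], [(1, 0)], [], 1⟩,
  ⟨272, [(82, 1), (315, 1), (123, 1), (26, 0)], [(1, 1)], [], 1⟩,
  ⟨290, [(299, 1), (45, 1), (54, 1), (82, 1), (197, 1)], [], [], 1⟩]
theorem b22 : Nat.card ↥(centralizer ({w2 x22} : Set ↥M2)) ≤ 864 :=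
  (bnd (X := x22) (l := l22) (m := 6) (by decide +kernel)).trans (by decide)
theorem o22 : orderOf (wd x22) = 6 := orderOf_eq (pv_pw _) (ps := [2, 3]) (by norm_num) (by norm_num)
  (by decide +kernel) (by norm_num)
theorem f22 : fixN (wd x22) = 6 := by
  rw [← pow_one (wd x22), fixN_pow (pv_pw _)]
  decide +kernel
theorem g22 : fixN (wd x22 ^ 2) = 36 := by
  rw [fixN_pow (pv_pw _)]
  decide +kernel
theorem a22 : adjN R (wd x22) = 126 := by
  rw [adjN_val (f := act x22) (act_eq x22)]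
  decide +kernel

def x23 : List ℕ := [6, 3, 1, 0, 5, 7]
def l23 : List Lv := [⟨137, [], [(3, 0), (1, 0), (2, 0)], [], 48⟩,
  ⟨147, [(236, 1), (235, 1)], [(1, 1), (2, 0)], [], 12⟩,
  ⟨246, [(143, 1), (234, 1), (147, 1)], [(1, 1)], [], 3⟩,
  ⟨216, [(147, 1), (149, 1), (246, 1), (137, 0), (234, 0)], [(1, 0)], [], 1⟩,
  ⟨26, [(140, 1), (227, 1), (246, 1)], [(3, 2)], [], 1⟩,
  ⟨272, [(140, 1), (234, 1), (149, 1), (226, 1), (246, 0)], [], [], 1⟩]
theorem b23 : Nat.card ↥(centralizer ({w2 x23} : Set ↥M2)) ≤ 1728 :=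
  (bnd (X := x23) (l := l23) (m := 6) (by decide +kernel)).trans (by decide)
theorem o23 : orderOf (wd x23) = 6 := orderOf_eq (pv_pw _) (ps := [2, 3]) (by norm_num) (by norm_num)
  (by decide +kernel) (by norm_num)
theorem f23 : fixN (wd x23) = 8 := by
  rw [← pow_one (wd x23), fixN_pow (pv_pw _)]
  decide +kernel
theorem g23 : fixN (wd x23 ^ 2) = 36 := by
  rw [fixN_pow (pv_pw _)]
  decide +kernel
theorem a23 : adjN R (wd x23) = 180 := by
  rw [adjN_val (f := act x23) (act_eq x23)]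
  decide +kernel

def x24 : List ℕ := [3, 2, 6, 1]
def l24 : List Lv := [⟨83, [], [(3, 1), (1, 0)], [], 54⟩,
  ⟨263, [(289, 1), (136, 1), (83, 0)], [(3, 1)], [], 2⟩,
  ⟨143, [(289, 1), (76, 1), (244, 1)], [(2, 0)], [], 4⟩,
  ⟨271, [(110, 1), (83, 1), (289, 1), (377, 0)], [(2, 0)], [], 2⟩,
  ⟨140, [(271, 1), (263, 1), (83, 0), (143, 0)], [(2, 2)], [], 1⟩,
  ⟨216, [(83, 1), (110, 1), (74, 1), (76, 0)], [(1, 1)], [], 1⟩,
  ⟨272, [(109, 1), (377, 1), (304, 1), (323, 1), (26, 0)], [], [], 1⟩,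
  ⟨290, [(143, 1), (220, 1), (244, 1)], [(2, 0)], [], 1⟩]
theorem b24 : Nat.card ↥(centralizer ({w2 x24} : Set ↥M2)) ≤ 864 :=
  (bnd (X := x24) (l := l24) (m := 6) (by decide +kernel)).trans (by decide)
theorem o24 : orderOf (wd x24) = 6 := orderOf_eq (pv_pw _) (ps := [2, 3]) (by norm_num) (by norm_num)
  (by decide +kernel) (by norm_num)
theorem f24 : fixN (wd x24) = 9 := by
  rw [← pow_one (wd x24), fixN_pow (pv_pw _)]
  decide +kernel
theorem g24 : fixN (wd x24 ^ 2) = 45 := by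
  rw [fixN_pow (pv_pw _)]
  decide +kernel
theorem a24 : adjN R (wd x24) = 99 := by
  rw [adjN_val (f := act x24) (act_eq x24)]
  decide +kernel

def x25 : List ℕ := [6, 4, 2]
def l25 : List Lv := [⟨149, [], [(2, 0), (1, 0)], [], 36⟩,
  ⟨337, [(149, 1)], [(2, 2), (1, 1)], [], 6⟩,
  ⟨78, [(196, 1), (337, 0), (91, 0)], [(1, 0), (2, 1)], [], 18⟩,
  ⟨21, [(149, 1), (64, 1), (261, 1), (337, 0), (91, 0), (52, 0)], [], [], 2⟩,
  ⟨143, [(196, 1), (91, 1), (78, 1), (365, 1)], [(1, 0)], [], 1⟩,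
  ⟨140, [(26, 1), (337, 1), (64, 1), (180, 0)], [(2, 1)], [], 1⟩,
  ⟨216, [(149, 1), (337, 1), (175, 1), (64, 1), (126, 1)], [], [], 1⟩,
  ⟨272, [(149, 1), (52, 1), (365, 1), (261, 1), (21, 1)], [], [], 1⟩,
  ⟨290, [(78, 1), (140, 0)], [(1, 2)], [], 1⟩]
theorem b25 : Nat.card ↥(centralizer ({w2 x25} : Set ↥M2)) ≤ 7776 :=
  (bnd (X := x25) (l := l25) (m := 6) (by decide +kernel)).trans (by decide)
theorem o25 : orderOf (wd x25) = 6 := orderOf_eq (pv_pw _) (ps := [2, 3]) (by norm_num) (by norm_num)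
  (by decide +kernel) (by norm_num)
theorem f25 : fixN (wd x25) = 9 := by
  rw [← pow_one (wd x25), fixN_pow (pv_pw _)]
  decide +kernel
theorem g25 : fixN (wd x25 ^ 2) = 45 := by
  rw [fixN_pow (pv_pw _)]
  decide +kernel
theorem a25 : adjN R (wd x25) = 171 := by
  rw [adjN_val (f := act x25) (act_eq x25)]
  decide +kernel

end Cfsg.Agent.H235.QS.O7C
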