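import Cfsg.Agent.H235.QS.O7M
import Cfsg.Agent.H235.Ore.EngNc

/-!
# Class representatives of `Ω₇(3)` under `SO₇(3)`: centralizers, orders, fixed points, part 2 (helper235)
-/

set_option autoImplicit false
set_option maxRecDepth 100000

namespace Cfsg.Agent.H235.QS.O7C

open Cfsg.Agent.H235.Ore.Eng Cfsg.Agent.H235.QS.O7M Subgroup Equiv

def x26 : List ℕ := [7, 0, 1, 2, 6]
def l26 : List Lv := [⟨350, [], [(1, 1)], [], 72⟩,
  ⟨136, [(237, 1), (238, 1)], [(1, 1)], [], 6⟩,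
  ⟨140, [(68, 1), (273, 1), (26, 1)], [(3, 0)], [], 4⟩,
  ⟨124, [(350, 1), (188, 1), (186, 1)], [(1, 1)], [], 2⟩,
  ⟨143, [(350, 1), (174, 1), (175, 1), (171, 1), (192, 1)], [], [], 1⟩,
  ⟨216, [(255, 1), (237, 1), (20, 1), (273, 1), (174, 1)], [], [], 1⟩,
  ⟨272, [(350, 1), (238, 1), (124, 1), (188, 1), (14, 1)], [], [], 1⟩,
  ⟨290, [(350, 1), (136, 1), (255, 0)], [(3, 1)], [], 1⟩]
theorem b26 : Nat.card ↥(centralizer ({w2 x26} : Set ↥M2)) ≤ 3456 :=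
  (bnd (X := x26) (l := l26) (m := 6) (by decide +kernel)).trans (by decide)
theorem o26 : orderOf (wd x26) = 6 := orderOf_eq (pv_pw _) (ps := [2, 3]) (by norm_num) (by norm_num)
  (by decide +kernel) (by norm_num)
theorem f26 : fixN (wd x26) = 12 := by
  rw [← pow_one (wd x26), fixN_pow (pv_pw _)]
  decide +kernel
theorem g26 : fixN (wd x26 ^ 2) = 36 := by
  rw [fixN_pow (pv_pw _)]
  decide +kernel
theorem a26 : adjN R (wd x26) = 72 := by
  rw [adjN_val (f := act x26) (act_eq x26)]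
  decide +kernel

def x27 : List ℕ := [7, 4, 6, 0, 1]
def l27 : List Lv := [⟨133, [], [(1, 2)], [], 18⟩,
  ⟨319, [(133, 1)], [(1, 1), (2, 0)], [], 12⟩,
  ⟨294, [(133, 1), (55, 1), (318, 1)], [(3, 1)], [], 9⟩,
  ⟨134, [(324, 1), (328, 1), (319, 0), (55, 0), (133, 0)], [(1, 1)], [], 4⟩,
  ⟨143, [(55, 1), (156, 1), (294, 1), (101, 0)], [(1, 1)], [], 1⟩,
  ⟨216, [(133, 1), (319, 1), (318, 1), (101, 1), (134, 1)], [], [], 1⟩,
  ⟨26, [(133, 1), (55, 1), (324, 1), (131, 1), (318, 0)], [], [], 1⟩,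
  ⟨272, [(319, 1), (55, 1), (153, 1), (101, 1), (193, 1)], [], [], 1⟩,
  ⟨290, [(133, 1), (318, 1), (328, 1), (216, 0), (294, 0)], [], [], 1⟩]
theorem b27 : Nat.card ↥(centralizer ({w2 x27} : Set ↥M2)) ≤ 7776 :=
  (bnd (X := x27) (l := l27) (m := 6) (by decide +kernel)).trans (by decide)
theorem o27 : orderOf (wd x27) = 6 := orderOf_eq (pv_pw _) (ps := [2, 3]) (by norm_num) (by norm_num)
  (by decide +kernel) (by norm_num)
theorem f27 : fixN (wd x27) = 18 := by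
  rw [← pow_one (wd x27), fixN_pow (pv_pw _)]
  decide +kernel
theorem g27 : fixN (wd x27 ^ 2) = 36 := by
  rw [fixN_pow (pv_pw _)]
  decide +kernel
theorem a27 : adjN R (wd x27) = 90 := by
  rw [adjN_val (f := act x27) (act_eq x27)]
  decide +kernel

def x28 : List ℕ := [0, 2, 3, 4, 1, 7, 6, 0, 2, 3, 4, 1, 7, 6, 0, 2, 3, 4, 1, 7, 6]
def l28 : List Lv := [⟨335, [], [(1, 1), (2, 0)], [], 216⟩,
  ⟨37, [(335, 1), (361, 1)], [(1, 0)], [], 3⟩,
  ⟨86, [(70, 1), (283, 1), (225, 1)], [(1, 1)], [], 9⟩,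
  ⟨28, [(283, 1), (257, 1), (106, 1), (37, 0), (225, 1)], [], [], 4⟩,
  ⟨104, [(32, 1), (46, 1), (37, 1), (361, 0)], [(1, 0)], [], 2⟩,
  ⟨140, [(335, 1), (225, 1), (104, 1), (86, 0)], [(1, 0)], [], 1⟩,
  ⟨216, [(283, 1), (257, 1), (46, 1), (327, 1), (299, 0)], [], [], 1⟩,
  ⟨26, [(361, 1), (86, 1), (37, 1)], [(1, 0)], [], 1⟩,
  ⟨272, [(361, 1), (86, 1), (140, 1)], [(2, 2)], [], 1⟩]
theorem b28 : Nat.card ↥(centralizer ({w2 x28} : Set ↥M2)) ≤ 46656 :=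
  (bnd (X := x28) (l := l28) (m := 6) (by decide +kernel)).trans (by decide)
theorem o28 : orderOf (wd x28) = 6 := orderOf_eq (pv_pw _) (ps := [2, 3]) (by norm_num) (by norm_num)
  (by decide +kernel) (by norm_num)
theorem f28 : fixN (wd x28) = 18 := by
  rw [← pow_one (wd x28), fixN_pow (pv_pw _)]
  decide +kernel
theorem g28 : fixN (wd x28 ^ 2) = 54 := by
  rw [fixN_pow (pv_pw _)]
  decide +kernel
theorem a28 : adjN R (wd x28) = 252 := by
  rw [adjN_val (f := act x28) (act_eq x28)]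
  decide +kernel

def x29 : List ℕ := [6, 7, 3, 4, 2, 5]
def l29 : List Lv := [⟨361, [], [(1, 1), (3, 1)], [⟨[], [(1, 0), (2, 0), (3, 0)], [376, 372, 371, 369, 367, 365, 363, 362, 359, 358, 357, 355, 353, 345, 337, 335, 328, 324, 322, 317, 313, 311, 307, 305, 301, 300, 296, 289, 284, 278, 273, 268, 263, 262, 261, 259, 256, 253, 252, 251, 250, 246, 245, 244, 240, 238, 235, 234, 229, 221, 218, 216, 215, 213, 208, 206, 198, 197, 195, 190, 181, 179, 177, 172, 171, 169, 168, 163, 160, 159, 156, 153, 149, 146, 145, 144, 140, 137, 135, 133, 128, 126, 124, 123, 121, 120, 119, 118, 117, 115, 112, 111, 110, 109, 108, 102, 100, 98, 95, 94, 92, 87, 82, 78, 73, 69, 66, 65, 64, 61, 56, 52, 47, 46, 39, 30, 29, 27, 21, 20, 9, 7, 6, 5, 1, 0], 34⟩], 14⟩,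
  ⟨290, [(303, 1), (79, 1), (138, 1)], [(2, 1), (1, 0)], [], 2⟩,
  ⟨143, [(361, 1), (303, 1), (90, 1), (294, 1), (290, 1)], [], [], 1⟩,
  ⟨140, [(303, 1), (165, 1), (225, 1), (314, 0), (80, 0)], [], [], 1⟩,
  ⟨216, [(165, 1), (90, 1), (174, 1), (225, 0), (131, 1)], [], [], 1⟩,
  ⟨26, [(361, 1), (303, 1), (294, 1), (143, 0)], [(3, 0)], [], 1⟩,
  ⟨272, [(361, 1), (303, 1), (165, 1), (308, 0)], [(1, 1)], [], 1⟩]
theorem b29 : Nat.card ↥(centralizer ({w2 x29} : Set ↥M2)) ≤ 28 :=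
  (bnd (X := x29) (l := l29) (m := 7) (by decide +kernel)).trans (by decide)
theorem o29 : orderOf (wd x29) = 7 := orderOf_eq (pv_pw _) (ps := [7]) (by norm_num) (by norm_num)
  (by decide +kernel) (by norm_num)
theorem f29 : fixN (wd x29) = 0 := by
  rw [← pow_one (wd x29), fixN_pow (pv_pw _)]
  decide +kernel
theorem g29 : fixN (wd x29 ^ 2) = 0 := by
  rw [fixN_pow (pv_pw _)]
  decide +kernel
theorem a29 : adjN R (wd x29) = 126 := by
  rw [adjN_val (f := act x29) (act_eq x29)]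
  decide +kernel

def x30 : List ℕ := [6, 3, 5, 2, 4, 6, 1, 2]
def l30 : List Lv := [⟨163, [], [(3, 1), (2, 1), (1, 0)], [], 32⟩,
  ⟨143, [(303, 1), (28, 1), (251, 1)], [(4, 1), (1, 0)], [], 1⟩,
  ⟨216, [(28, 1), (166, 1), (2, 1), (104, 0)], [(2, 1)], [], 1⟩,
  ⟨26, [(163, 1), (303, 1), (104, 1), (166, 1), (87, 1)], [], [], 1⟩,
  ⟨290, [(121, 1), (225, 1)], [(4, 1), (1, 1)], [], 1⟩]
theorem b30 : Nat.card ↥(centralizer ({w2 x30} : Set ↥M2)) ≤ 32 :=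
  (bnd (X := x30) (l := l30) (m := 8) (by decide +kernel)).trans (by decide)
theorem o30 : orderOf (wd x30) = 8 := orderOf_eq (pv_pw _) (ps := [2]) (by norm_num) (by norm_num)
  (by decide +kernel) (by norm_num)
theorem f30 : fixN (wd x30) = 0 := by
  rw [← pow_one (wd x30), fixN_pow (pv_pw _)]
  decide +kernel
theorem g30 : fixN (wd x30 ^ 2) = 2 := by
  rw [fixN_pow (pv_pw _)]
  decide +kernel
theorem a30 : adjN R (wd x30) = 126 := by
  rw [adjN_val (f := act x30) (act_eq x30)]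
  decide +kernel

def x31 : List ℕ := [3, 1, 6, 4, 2]
def l31 : List Lv := [⟨295, [], [(1, 1), (2, 1), (3, 0)], [], 16⟩,
  ⟨110, [(262, 1), (295, 0), (269, 0), (369, 0), (317, 0)], [(4, 1), (1, 0), (3, 0)], [], 2⟩,
  ⟨216, [(110, 1), (109, 1), (248, 1), (276, 0)], [(2, 1)], [], 1⟩,
  ⟨26, [(295, 1), (140, 1), (180, 1), (369, 1)], [(3, 1)], [], 1⟩,
  ⟨272, [(269, 1), (140, 1), (180, 1), (369, 1)], [(1, 0)], [], 1⟩,
  ⟨290, [(276, 1), (79, 1), (110, 0)], [(4, 1)], [], 1⟩]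
theorem b31 : Nat.card ↥(centralizer ({w2 x31} : Set ↥M2)) ≤ 32 :=
  (bnd (X := x31) (l := l31) (m := 8) (by decide +kernel)).trans (by decide)
theorem o31 : orderOf (wd x31) = 8 := orderOf_eq (pv_pw _) (ps := [2]) (by norm_num) (by norm_num)
  (by decide +kernel) (by norm_num)
theorem f31 : fixN (wd x31) = 2 := by
  rw [← pow_one (wd x31), fixN_pow (pv_pw _)]
  decide +kernel
theorem g31 : fixN (wd x31 ^ 2) = 6 := by
  rw [fixN_pow (pv_pw _)]
  decide +kernel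
theorem a31 : adjN R (wd x31) = 108 := by
  rw [adjN_val (f := act x31) (act_eq x31)]
  decide +kernel

def x32 : List ℕ := [4, 3, 2, 6, 1, 5, 0]
def l32 : List Lv := [⟨361, [], [(2, 1), (4, 1)], [], 27⟩,
  ⟨143, [(361, 1), (343, 1), (155, 1), (339, 0), (235, 0)], [(1, 0)], [], 1⟩,
  ⟨140, [(339, 1), (155, 1), (162, 1), (361, 0), (356, 0), (331, 0)], [], [], 1⟩,
  ⟨216, [(167, 1), (356, 1), (237, 1)], [(4, 1)], [], 1⟩,
  ⟨26, [(224, 1), (356, 1)], [(1, 1), (4, 1)], [], 1⟩,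
  ⟨272, [(361, 1), (114, 1), (52, 1), (235, 0), (331, 0)], [], [], 1⟩]
theorem b32 : Nat.card ↥(centralizer ({w2 x32} : Set ↥M2)) ≤ 27 :=
  (bnd (X := x32) (l := l32) (m := 9) (by decide +kernel)).trans (by decide)
theorem o32 : orderOf (wd x32) = 9 := orderOf_eq (pv_pw _) (ps := [3]) (by norm_num) (by norm_num)
  (by decide +kernel) (by norm_num)
theorem f32 : fixN (wd x32) = 0 := by
  rw [← pow_one (wd x32), fixN_pow (pv_pw _)]
  decide +kernel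
theorem g32 : fixN (wd x32 ^ 2) = 0 := by
  rw [fixN_pow (pv_pw _)]
  decide +kernel
theorem a32 : adjN R (wd x32) = 108 := by
  rw [adjN_val (f := act x32) (act_eq x32)]
  decide +kernel

def x33 : List ℕ := [1, 7, 0, 2, 3, 1, 2, 6]
def l33 : List Lv := [⟨253, [], [(2, 1)], [], 81⟩,
  ⟨93, [(253, 1), (143, 1), (92, 0)], [(2, 1)], [], 4⟩,
  ⟨216, [(132, 1), (201, 1), (257, 1)], [(3, 2)], [], 1⟩,
  ⟨26, [(253, 1), (186, 1), (93, 1)], [(2, 1)], [], 1⟩,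
  ⟨272, [(253, 1), (257, 1), (132, 0), (186, 0), (216, 0), (26, 0)], [(3, 2)], [], 1⟩,
  ⟨290, [(143, 1), (136, 1), (92, 1), (186, 0)], [(1, 1)], [], 1⟩]
theorem b33 : Nat.card ↥(centralizer ({w2 x33} : Set ↥M2)) ≤ 324 :=
  (bnd (X := x33) (l := l33) (m := 9) (by decide +kernel)).trans (by decide)
theorem o33 : orderOf (wd x33) = 9 := orderOf_eq (pv_pw _) (ps := [3]) (by norm_num) (by norm_num)
  (by decide +kernel) (by norm_num)
theorem f33 : fixN (wd x33) = 3 := by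
  rw [← pow_one (wd x33), fixN_pow (pv_pw _)]
  decide +kernel
theorem g33 : fixN (wd x33 ^ 2) = 3 := by
  rw [fixN_pow (pv_pw _)]
  decide +kernel
theorem a33 : adjN R (wd x33) = 81 := by
  rw [adjN_val (f := act x33) (act_eq x33)]
  decide +kernel

def x34 : List ℕ := [2, 1, 7, 2, 6, 2, 1, 4, 3, 0, 2, 1, 7, 2, 6, 2, 1, 4, 3, 0]
def l34 : List Lv := [⟨83, [], [(2, 1), (1, 0)], [], 81⟩,
  ⟨206, [(140, 1), (92, 1), (79, 1)], [(1, 1)], [], 4⟩,
  ⟨260, [(67, 1), (43, 1), (297, 1), (91, 1)], [(1, 1)], [], 2⟩,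
  ⟨26, [(140, 1), (263, 1), (108, 1), (91, 1), (37, 1)], [], [], 1⟩,
  ⟨272, [(140, 1), (207, 1), (172, 1), (206, 0)], [(4, 1)], [], 1⟩,
  ⟨290, [(92, 1), (79, 1), (260, 1), (318, 1)], [(1, 1)], [], 1⟩]
theorem b34 : Nat.card ↥(centralizer ({w2 x34} : Set ↥M2)) ≤ 648 :=
  (bnd (X := x34) (l := l34) (m := 9) (by decide +kernel)).trans (by decide)
theorem o34 : orderOf (wd x34) = 9 := orderOf_eq (pv_pw _) (ps := [3]) (by norm_num) (by norm_num)
  (by decide +kernel) (by norm_num)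
theorem f34 : fixN (wd x34) = 6 := by
  rw [← pow_one (wd x34), fixN_pow (pv_pw _)]
  decide +kernel
theorem g34 : fixN (wd x34 ^ 2) = 6 := by
  rw [fixN_pow (pv_pw _)]
  decide +kernel
theorem a34 : adjN R (wd x34) = 162 := by
  rw [adjN_val (f := act x34) (act_eq x34)]
  decide +kernel

def x35 : List ℕ := [7, 1, 6, 2, 4]
def l35 : List Lv := [⟨369, [], [(1, 1), (3, 1), (2, 1)], [], 10⟩,
  ⟨111, [(317, 1), (299, 1)], [(5, 2), (2, 0), (1, 0)], [], 2⟩,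
  ⟨155, [(369, 1), (262, 1), (230, 1), (65, 1)], [(1, 0)], [], 2⟩,
  ⟨143, [(299, 1), (230, 1), (291, 1), (140, 0)], [(1, 1)], [], 1⟩,
  ⟨216, [(65, 1), (230, 1), (291, 1), (11, 1)], [(2, 0)], [], 1⟩,
  ⟨26, [(270, 1), (316, 1), (44, 1)], [(3, 1)], [], 1⟩,
  ⟨272, [(21, 1), (369, 1), (230, 1)], [(1, 1)], [], 1⟩,
  ⟨290, [(299, 1), (230, 1), (21, 1), (140, 0)], [(1, 0)], [], 1⟩]
theorem b35 : Nat.card ↥(centralizer ({w2 x35} : Set ↥M2)) ≤ 40 :=
  (bnd (X := x35) (l := l35) (m := 10) (by decide +kernel)).trans (by decide)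
theorem o35 : orderOf (wd x35) = 10 := orderOf_eq (pv_pw _) (ps := [2, 5]) (by norm_num) (by norm_num)
  (by decide +kernel) (by norm_num)
theorem f35 : fixN (wd x35) = 1 := by
  rw [← pow_one (wd x35), fixN_pow (pv_pw _)]
  decide +kernel
theorem g35 : fixN (wd x35 ^ 2) = 3 := by
  rw [fixN_pow (pv_pw _)]
  decide +kernel
theorem a35 : adjN R (wd x35) = 117 := by
  rw [adjN_val (f := act x35) (act_eq x35)]
  decide +kernel

def x36 : List ℕ := [4, 2, 5, 3, 7, 0]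
def l36 : List Lv := [⟨352, [], [(1, 1), (2, 1), (5, 0)], [], 20⟩,
  ⟨26, [(352, 1), (110, 1), (264, 1)], [(5, 1)], [], 2⟩,
  ⟨60, [(352, 1), (290, 1), (296, 1), (264, 0)], [(1, 1)], [], 2⟩,
  ⟨143, [(58, 1), (244, 1), (32, 1), (290, 1), (60, 1)], [], [], 1⟩,
  ⟨216, [(110, 1), (238, 1), (346, 1), (264, 1), (100, 1)], [], [], 1⟩]
theorem b36 : Nat.card ↥(centralizer ({w2 x36} : Set ↥M2)) ≤ 80 :=
  (bnd (X := x36) (l := l36) (m := 10) (by decide +kernel)).trans (by decide)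
theorem o36 : orderOf (wd x36) = 10 := orderOf_eq (pv_pw _) (ps := [2, 5]) (by norm_num) (by norm_num)
  (by decide +kernel) (by norm_num)
theorem f36 : fixN (wd x36) = 3 := by
  rw [← pow_one (wd x36), fixN_pow (pv_pw _)]
  decide +kernel
theorem g36 : fixN (wd x36 ^ 2) = 3 := by
  rw [fixN_pow (pv_pw _)]
  decide +kernel
theorem a36 : adjN R (wd x36) = 135 := by
  rw [adjN_val (f := act x36) (act_eq x36)]
  decide +kernel

def x37 : List ℕ := [2, 1, 0, 4, 6, 3]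
def l37 : List Lv := [⟨216, [], [(2, 1), (1, 0)], [], 36⟩,
  ⟨143, [(346, 1), (98, 1), (89, 0)], [(6, 1)], [], 1⟩,
  ⟨140, [(203, 1), (107, 1), (335, 1), (100, 1), (329, 0)], [], [], 1⟩,
  ⟨26, [(99, 1), (3, 1), (126, 1), (203, 0)], [(1, 1)], [], 1⟩,
  ⟨272, [(126, 1), (127, 1), (346, 1), (98, 0)], [(1, 1)], [], 1⟩,
  ⟨290, [(143, 1), (28, 1), (3, 0)], [(2, 1)], [], 1⟩]
theorem b37 : Nat.card ↥(centralizer ({w2 x37} : Set ↥M2)) ≤ 36 :=
  (bnd (X := x37) (l := l37) (m := 12) (by decide +kernel)).trans (by decide)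
theorem o37 : orderOf (wd x37) = 12 := orderOf_eq (pv_pw _) (ps := [2, 3]) (by norm_num) (by norm_num)
  (by decide +kernel) (by norm_num)
theorem f37 : fixN (wd x37) = 0 := by
  rw [← pow_one (wd x37), fixN_pow (pv_pw _)]
  decide +kernel
theorem g37 : fixN (wd x37 ^ 2) = 0 := by
  rw [fixN_pow (pv_pw _)]
  decide +kernel
theorem a37 : adjN R (wd x37) = 108 := by
  rw [adjN_val (f := act x37) (act_eq x37)]
  decide +kernel

def x38 : List ℕ := [1, 6, 3, 2, 5, 1, 7, 6, 3, 2, 0, 7, 4]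
def l38 : List Lv := [⟨216, [], [(6, 1)], [], 72⟩,
  ⟨377, [(345, 1), (18, 1), (216, 0), (359, 0)], [(2, 1)], [], 4⟩,
  ⟨140, [(18, 1), (166, 1), (26, 1), (377, 1), (301, 1)], [], [], 1⟩,
  ⟨272, [(359, 1), (257, 1), (323, 1), (166, 1), (377, 1)], [], [], 1⟩,
  ⟨290, [(377, 1), (219, 0), (323, 1), (216, 0)], [(4, 2)], [], 1⟩]
theorem b38 : Nat.card ↥(centralizer ({w2 x38} : Set ↥M2)) ≤ 288 :=
  (bnd (X := x38) (l := l38) (m := 12) (by decide +kernel)).trans (by decide)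
theorem o38 : orderOf (wd x38) = 12 := orderOf_eq (pv_pw _) (ps := [2, 3]) (by norm_num) (by norm_num)
  (by decide +kernel) (by norm_num)
theorem f38 : fixN (wd x38) = 0 := by
  rw [← pow_one (wd x38), fixN_pow (pv_pw _)]
  decide +kernel
theorem g38 : fixN (wd x38 ^ 2) = 12 := by
  rw [fixN_pow (pv_pw _)]
  decide +kernel
theorem a38 : adjN R (wd x38) = 108 := by
  rw [adjN_val (f := act x38) (act_eq x38)]
  decide +kernel

def x39 : List ℕ := [7, 2, 6, 5, 4, 0]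
def l39 : List Lv := [⟨285, [], [(3, 1), (6, 1)], [], 24⟩,
  ⟨16, [(310, 1), (327, 1), (336, 1)], [(4, 0), (2, 1)], [], 2⟩,
  ⟨143, [(293, 1), (233, 1), (93, 1), (276, 0), (140, 0)], [(4, 0)], [], 1⟩,
  ⟨216, [(310, 1), (293, 1), (131, 1)], [(1, 1)], [], 1⟩,
  ⟨26, [(180, 1), (285, 1), (140, 1)], [(4, 2)], [], 1⟩,
  ⟨272, [(285, 1), (180, 1), (140, 1), (13, 1), (203, 1)], [], [], 1⟩,
  ⟨290, [(276, 1), (180, 1), (200, 1), (131, 1), (10, 1)], [], [], 1⟩]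
theorem b39 : Nat.card ↥(centralizer ({w2 x39} : Set ↥M2)) ≤ 48 :=
  (bnd (X := x39) (l := l39) (m := 12) (by decide +kernel)).trans (by decide)
theorem o39 : orderOf (wd x39) = 12 := orderOf_eq (pv_pw _) (ps := [2, 3]) (by norm_num) (by norm_num)
  (by decide +kernel) (by norm_num)
theorem f39 : fixN (wd x39) = 1 := by
  rw [← pow_one (wd x39), fixN_pow (pv_pw _)]
  decide +kernel
theorem g39 : fixN (wd x39 ^ 2) = 5 := by
  rw [fixN_pow (pv_pw _)]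
  decide +kernel
theorem a39 : adjN R (wd x39) = 99 := by
  rw [adjN_val (f := act x39) (act_eq x39)]
  decide +kernel

def x40 : List ℕ := [6, 5, 3, 7, 4]
def l40 : List Lv := [⟨125, [], [(4, 2), (2, 0), (1, 0)], [], 24⟩,
  ⟨22, [(218, 1), (125, 0), (143, 0)], [(1, 1), (3, 0)], [], 6⟩,
  ⟨140, [(22, 1), (100, 1), (25, 1), (125, 0)], [(4, 2)], [], 1⟩,
  ⟨216, [(100, 1), (364, 1)], [(4, 0), (1, 0), (2, 1)], [], 1⟩,
  ⟨26, [(140, 1), (135, 1)], [(3, 2)], [], 1⟩,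
  ⟨272, [(125, 1), (25, 1), (138, 1), (167, 1)], [(1, 0)], [], 1⟩,
  ⟨290, [(143, 1), (45, 1), (22, 1)], [(6, 2)], [], 1⟩]
theorem b40 : Nat.card ↥(centralizer ({w2 x40} : Set ↥M2)) ≤ 144 :=
  (bnd (X := x40) (l := l40) (m := 12) (by decide +kernel)).trans (by decide)
theorem o40 : orderOf (wd x40) = 12 := orderOf_eq (pv_pw _) (ps := [2, 3]) (by norm_num) (by norm_num)
  (by decide +kernel) (by norm_num)
theorem f40 : fixN (wd x40) = 1 := by
  rw [← pow_one (wd x40), fixN_pow (pv_pw _)]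
  decide +kernel
theorem g40 : fixN (wd x40 ^ 2) = 5 := by
  rw [fixN_pow (pv_pw _)]
  decide +kernel
theorem a40 : adjN R (wd x40) = 135 := by
  rw [adjN_val (f := act x40) (act_eq x40)]
  decide +kernel

def x41 : List ℕ := [7, 1, 5, 6, 2, 0, 3]
def l41 : List Lv := [⟨144, [], [(1, 2)], [], 2⟩,
  ⟨181, [(144, 1)], [(2, 1), (1, 1)], [], 12⟩,
  ⟨34, [(144, 1), (373, 1), (347, 1)], [(5, 1), (2, 0)], [], 2⟩,
  ⟨126, [(232, 1), (284, 1), (199, 0)], [(4, 2), (1, 1)], [], 2⟩,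
  ⟨143, [(232, 1), (80, 1), (299, 1), (173, 1), (89, 0)], [], [], 1⟩,
  ⟨140, [(373, 1), (232, 1), (59, 1), (144, 0), (126, 0)], [], [], 1⟩,
  ⟨216, [(373, 1), (19, 1), (202, 1), (311, 1), (126, 1)], [], [], 1⟩,
  ⟨26, [(254, 1), (232, 1), (183, 1)], [(2, 1)], [], 1⟩,
  ⟨272, [(373, 1), (199, 1), (261, 1), (311, 1), (284, 1)], [], [], 1⟩]
theorem b41 : Nat.card ↥(centralizer ({w2 x41} : Set ↥M2)) ≤ 96 :=
  (bnd (X := x41) (l := l41) (m := 12) (by decide +kernel)).trans (by decide)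
theorem o41 : orderOf (wd x41) = 12 := orderOf_eq (pv_pw _) (ps := [2, 3]) (by norm_num) (by norm_num)
  (by decide +kernel) (by norm_num)
theorem f41 : fixN (wd x41) = 2 := by
  rw [← pow_one (wd x41), fixN_pow (pv_pw _)]
  decide +kernel
theorem g41 : fixN (wd x41 ^ 2) = 6 := by
  rw [fixN_pow (pv_pw _)]
  decide +kernel
theorem a41 : adjN R (wd x41) = 144 := by
  rw [adjN_val (f := act x41) (act_eq x41)]
  decide +kernel

def x42 : List ℕ := [7, 3, 0, 5, 1, 6, 4]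
def l42 : List Lv := [⟨240, [], [(6, 0), (2, 0), (1, 0)], [], 48⟩,
  ⟨75, [(241, 1), (54, 1), (2, 1)], [(2, 1)], [], 3⟩,
  ⟨143, [(55, 1), (54, 1), (75, 1), (345, 1), (343, 1)], [], [], 1⟩,
  ⟨216, [(55, 1), (1, 1), (54, 1), (345, 1)], [(2, 1)], [], 1⟩,
  ⟨26, [(55, 1), (224, 1)], [(3, 2)], [], 1⟩,
  ⟨290, [(241, 1), (26, 0), (5, 0)], [(6, 2)], [], 1⟩]
theorem b42 : Nat.card ↥(centralizer ({w2 x42} : Set ↥M2)) ≤ 144 :=
  (bnd (X := x42) (l := l42) (m := 12) (by decide +kernel)).trans (by decide)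
theorem o42 : orderOf (wd x42) = 12 := orderOf_eq (pv_pw _) (ps := [2, 3]) (by norm_num) (by norm_num)
  (by decide +kernel) (by norm_num)
theorem f42 : fixN (wd x42) = 4 := by
  rw [← pow_one (wd x42), fixN_pow (pv_pw _)]
  decide +kernel
theorem g42 : fixN (wd x42 ^ 2) = 8 := by
  rw [fixN_pow (pv_pw _)]
  decide +kernel
theorem a42 : adjN R (wd x42) = 108 := by
  rw [adjN_val (f := act x42) (act_eq x42)]
  decide +kernel

def x43 : List ℕ := [0, 7, 1, 2, 3, 6]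
def l43 : List Lv := [⟨321, [], [(1, 1), (2, 0)], [], 72⟩,
  ⟨197, [(322, 1), (47, 0), (342, 0)], [(1, 1), (2, 0)], [], 4⟩,
  ⟨26, [(321, 1), (3, 1), (197, 1)], [(2, 1), (1, 1)], [], 1⟩,
  ⟨272, [(14, 1), (47, 1), (188, 1)], [(1, 1)], [], 1⟩,
  ⟨290, [(174, 1), (14, 1), (143, 1), (197, 1)], [(3, 1)], [], 1⟩]
theorem b43 : Nat.card ↥(centralizer ({w2 x43} : Set ↥M2)) ≤ 288 :=
  (bnd (X := x43) (l := l43) (m := 12) (by decide +kernel)).trans (by decide)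
theorem o43 : orderOf (wd x43) = 12 := orderOf_eq (pv_pw _) (ps := [2, 3]) (by norm_num) (by norm_num)
  (by decide +kernel) (by norm_num)
theorem f43 : fixN (wd x43) = 6 := by
  rw [← pow_one (wd x43), fixN_pow (pv_pw _)]
  decide +kernel
theorem g43 : fixN (wd x43 ^ 2) = 6 := by
  rw [fixN_pow (pv_pw _)]
  decide +kernel
theorem a43 : adjN R (wd x43) = 108 := by
  rw [adjN_val (f := act x43) (act_eq x43)]
  decide +kernel

def x44 : List ℕ := [0, 4, 3, 7, 6, 2, 1, 5]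
def l44 : List Lv := [⟨158, [], [(6, 1), (1, 0), (2, 0), (3, 0)], [], 26⟩,
  ⟨140, [(158, 1), (206, 1), (168, 1), (67, 1), (326, 0)], [], [], 1⟩,
  ⟨216, [(158, 1), (239, 1), (91, 1)], [(2, 1)], [], 1⟩,
  ⟨26, [(158, 1), (239, 1), (68, 1)], [(4, 1)], [], 1⟩,
  ⟨272, [(86, 1), (207, 1), (305, 1)], [(3, 1)], [], 1⟩,
  ⟨290, [(158, 1), (143, 1), (210, 1), (168, 1), (323, 1)], [], [], 1⟩]
theorem b44 : Nat.card ↥(centralizer ({w2 x44} : Set ↥M2)) ≤ 26 :=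
  (bnd (X := x44) (l := l44) (m := 13) (by decide +kernel)).trans (by decide)
theorem o44 : orderOf (wd x44) = 13 := orderOf_eq (pv_pw _) (ps := [13]) (by norm_num) (by norm_num)
  (by decide +kernel) (by norm_num)
theorem f44 : fixN (wd x44) = 1 := by
  rw [← pow_one (wd x44), fixN_pow (pv_pw _)]
  decide +kernel
theorem g44 : fixN (wd x44 ^ 2) = 1 := by
  rw [fixN_pow (pv_pw _)]
  decide +kernel
theorem a44 : adjN R (wd x44) = 117 := by
  rw [adjN_val (f := act x44) (act_eq x44)]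
  decide +kernel

def x45 : List ℕ := [0, 4, 3, 7, 6, 2, 1, 5, 0, 4, 3, 7, 6, 2, 1, 5]
def l45 : List Lv := [⟨349, [], [(1, 1), (2, 1), (3, 1)], [], 13⟩,
  ⟨216, [(309, 1), (310, 1), (192, 1)], [(1, 1)], [], 2⟩,
  ⟨143, [(244, 1), (232, 1), (76, 1)], [(3, 1), (2, 0)], [], 1⟩,
  ⟨140, [(22, 1), (232, 1), (203, 1), (354, 0)], [(1, 0)], [], 1⟩,
  ⟨26, [(232, 1), (109, 1), (86, 1)], [(2, 1)], [], 1⟩,
  ⟨272, [(346, 1), (109, 1), (258, 1)], [(5, 1)], [], 1⟩,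
  ⟨290, [(309, 1), (22, 1), (244, 1), (346, 1), (216, 0)], [], [], 1⟩]
theorem b45 : Nat.card ↥(centralizer ({w2 x45} : Set ↥M2)) ≤ 26 :=
  (bnd (X := x45) (l := l45) (m := 13) (by decide +kernel)).trans (by decide)
theorem o45 : orderOf (wd x45) = 13 := orderOf_eq (pv_pw _) (ps := [13]) (by norm_num) (by norm_num)
  (by decide +kernel) (by norm_num)
theorem f45 : fixN (wd x45) = 1 := by
  rw [← pow_one (wd x45), fixN_pow (pv_pw _)]
  decide +kernel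
theorem g45 : fixN (wd x45 ^ 2) = 1 := by
  rw [fixN_pow (pv_pw _)]
  decide +kernel
theorem a45 : adjN R (wd x45) = 117 := by
  rw [adjN_val (f := act x45) (act_eq x45)]
  decide +kernel

def x46 : List ℕ := [3, 2, 4, 0, 5, 7, 1]
def l46 : List Lv := [⟨361, [], [(1, 1), (2, 1), (3, 0)], [], 14⟩,
  ⟨92, [(180, 1), (376, 1), (52, 1)], [(3, 1), (1, 1)], [], 2⟩,
  ⟨143, [(361, 1), (92, 1), (249, 1), (180, 0)], [(7, 2)], [], 1⟩,
  ⟨140, [(272, 1), (376, 1), (166, 1)], [(5, 1), (1, 0)], [], 1⟩,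
  ⟨216, [(284, 1), (92, 1), (83, 1), (272, 0)], [(3, 1)], [], 1⟩,
  ⟨26, [(361, 1), (180, 1), (140, 1), (217, 1), (166, 1)], [], [], 1⟩]
theorem b46 : Nat.card ↥(centralizer ({w2 x46} : Set ↥M2)) ≤ 28 :=
  (bnd (X := x46) (l := l46) (m := 14) (by decide +kernel)).trans (by decide)
theorem o46 : orderOf (wd x46) = 14 := orderOf_eq (pv_pw _) (ps := [2, 7]) (by norm_num) (by norm_num)
  (by decide +kernel) (by norm_num)
theorem f46 : fixN (wd x46) = 0 := by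
  rw [← pow_one (wd x46), fixN_pow (pv_pw _)]
  decide +kernel
theorem g46 : fixN (wd x46 ^ 2) = 0 := by
  rw [fixN_pow (pv_pw _)]
  decide +kernel
theorem a46 : adjN R (wd x46) = 126 := by
  rw [adjN_val (f := act x46) (act_eq x46)]
  decide +kernel

def x47 : List ℕ := [1, 0, 4, 6, 5, 2]
def l47 : List Lv := [⟨240, [], [(3, 1), (6, 1), (1, 0)], [], 30⟩,
  ⟨143, [(91, 1), (345, 1), (297, 1), (101, 0)], [(5, 0)], [], 1⟩,
  ⟨140, [(164, 1), (270, 1), (297, 1), (281, 0)], [(5, 0)], [], 1⟩,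
  ⟨216, [(91, 1), (328, 1), (101, 1), (345, 1), (222, 0)], [], [], 1⟩,
  ⟨26, [(140, 1), (270, 1), (194, 1)], [(5, 2)], [], 1⟩,
  ⟨272, [(140, 1), (222, 1), (101, 1)], [(1, 1)], [], 1⟩]
theorem b47 : Nat.card ↥(centralizer ({w2 x47} : Set ↥M2)) ≤ 30 :=
  (bnd (X := x47) (l := l47) (m := 15) (by decide +kernel)).trans (by decide)
theorem o47 : orderOf (wd x47) = 15 := orderOf_eq (pv_pw _) (ps := [3, 5]) (by norm_num) (by norm_num)
  (by decide +kernel) (by norm_num)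
theorem f47 : fixN (wd x47) = 0 := by
  rw [← pow_one (wd x47), fixN_pow (pv_pw _)]
  decide +kernel
theorem g47 : fixN (wd x47 ^ 2) = 0 := by
  rw [fixN_pow (pv_pw _)]
  decide +kernel
theorem a47 : adjN R (wd x47) = 108 := by
  rw [adjN_val (f := act x47) (act_eq x47)]
  decide +kernel

def x48 : List ℕ := [2, 1, 3, 2, 6, 5, 7, 1, 2, 4, 6, 3, 2, 1, 7, 0, 1, 4]
def l48 : List Lv := [⟨134, [], [(3, 0), (1, 0), (2, 1)], [], 27⟩,
  ⟨271, [(213, 1), (159, 1), (124, 1)], [(5, 0), (3, 1)], [], 2⟩,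
  ⟨202, [(213, 1), (258, 1), (271, 1), (294, 1), (134, 0)], [], [], 2⟩,
  ⟨143, [(349, 1), (345, 1), (196, 1)], [(6, 2)], [], 1⟩,
  ⟨216, [(134, 1), (373, 1), (91, 1), (230, 1), (202, 1)], [], [], 1⟩,
  ⟨272, [(373, 1), (222, 1), (202, 0)], [(3, 2)], [], 1⟩]
theorem b48 : Nat.card ↥(centralizer ({w2 x48} : Set ↥M2)) ≤ 108 :=
  (bnd (X := x48) (l := l48) (m := 18) (by decide +kernel)).trans (by decide)
theorem o48 : orderOf (wd x48) = 18 := orderOf_eq (pv_pw _) (ps := [2, 3]) (by norm_num) (by norm_num)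
  (by decide +kernel) (by norm_num)
theorem f48 : fixN (wd x48) = 0 := by
  rw [← pow_one (wd x48), fixN_pow (pv_pw _)]
  decide +kernel
theorem g48 : fixN (wd x48 ^ 2) = 6 := by
  rw [fixN_pow (pv_pw _)]
  decide +kernel
theorem a48 : adjN R (wd x48) = 144 := by
  rw [adjN_val (f := act x48) (act_eq x48)]
  decide +kernel

def x49 : List ℕ := [2, 1, 7, 2, 6, 2, 1, 4, 3, 0]
def l49 : List Lv := [⟨234, [], [(2, 1), (3, 1), (4, 1)], [], 36⟩,
  ⟨98, [(234, 1), (334, 1), (103, 1), (183, 1)], [(3, 1)], [], 2⟩,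
  ⟨140, [(198, 1), (334, 1), (103, 1), (303, 1), (46, 0)], [], [], 1⟩,
  ⟨26, [(234, 1), (198, 1), (246, 1)], [(1, 1)], [], 1⟩,
  ⟨290, [(356, 1), (78, 1)], [(9, 2), (4, 0)], [], 1⟩]
theorem b49 : Nat.card ↥(centralizer ({w2 x49} : Set ↥M2)) ≤ 72 :=
  (bnd (X := x49) (l := l49) (m := 18) (by decide +kernel)).trans (by decide)
theorem o49 : orderOf (wd x49) = 18 := orderOf_eq (pv_pw _) (ps := [2, 3]) (by norm_num) (by norm_num)
  (by decide +kernel) (by norm_num)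
theorem f49 : fixN (wd x49) = 2 := by
  rw [← pow_one (wd x49), fixN_pow (pv_pw _)]
  decide +kernel
theorem g49 : fixN (wd x49 ^ 2) = 6 := by
  rw [fixN_pow (pv_pw _)]
  decide +kernel
theorem a49 : adjN R (wd x49) = 126 := by
  rw [adjN_val (f := act x49) (act_eq x49)]
  decide +kernel

def x50 : List ℕ := [0, 2, 3, 4, 1, 7, 6]
def l50 : List Lv := [⟨247, [], [(2, 1), (1, 1)], [], 54⟩,
  ⟨33, [(247, 1), (139, 1), (298, 1)], [(4, 1)], [], 2⟩,
  ⟨140, [(169, 1), (298, 1), (155, 1)], [(8, 1), (1, 1)], [], 1⟩,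
  ⟨26, [(169, 1), (126, 1), (247, 0), (155, 1)], [(2, 1)], [], 1⟩,
  ⟨272, [(48, 1), (140, 1), (139, 1)], [(6, 2)], [], 1⟩]
theorem b50 : Nat.card ↥(centralizer ({w2 x50} : Set ↥M2)) ≤ 108 :=
  (bnd (X := x50) (l := l50) (m := 18) (by decide +kernel)).trans (by decide)
theorem o50 : orderOf (wd x50) = 18 := orderOf_eq (pv_pw _) (ps := [2, 3]) (by norm_num) (by norm_num)
  (by decide +kernel) (by norm_num)
theorem f50 : fixN (wd x50) = 3 := by
  rw [← pow_one (wd x50), fixN_pow (pv_pw _)]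
  decide +kernel
theorem g50 : fixN (wd x50 ^ 2) = 3 := by
  rw [fixN_pow (pv_pw _)]
  decide +kernel
theorem a50 : adjN R (wd x50) = 117 := by
  rw [adjN_val (f := act x50) (act_eq x50)]
  decide +kernel

def x51 : List ℕ := [1, 0, 2, 3, 7, 4, 2, 5, 6, 2]
def l51 : List Lv := [⟨245, [], [(3, 1), (5, 1), (1, 0)], [], 40⟩,
  ⟨143, [(245, 1), (159, 1), (294, 1), (290, 1), (232, 1)], [], [], 1⟩,
  ⟨140, [(159, 1), (277, 1), (167, 1)], [(10, 2)], [], 1⟩,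
  ⟨216, [(167, 1), (1, 1), (126, 1), (245, 0)], [(2, 0)], [], 1⟩,
  ⟨272, [(13, 1), (69, 1), (258, 1), (159, 0)], [(1, 1)], [], 1⟩]
theorem b51 : Nat.card ↥(centralizer ({w2 x51} : Set ↥M2)) ≤ 40 :=
  (bnd (X := x51) (l := l51) (m := 20) (by decide +kernel)).trans (by decide)
theorem o51 : orderOf (wd x51) = 20 := orderOf_eq (pv_pw _) (ps := [2, 5]) (by norm_num) (by norm_num)
  (by decide +kernel) (by norm_num)
theorem f51 : fixN (wd x51) = 1 := by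
  rw [← pow_one (wd x51), fixN_pow (pv_pw _)]
  decide +kernel
theorem g51 : fixN (wd x51 ^ 2) = 3 := by
  rw [fixN_pow (pv_pw _)]
  decide +kernel
theorem a51 : adjN R (wd x51) = 117 := by
  rw [adjN_val (f := act x51) (act_eq x51)]
  decide +kernel

end Cfsg.Agent.H235.QS.O7C
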