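import Cfsg.Agent.H235.QS.O7C1
import Cfsg.Agent.H235.QS.O7C2

/-!
# The classes of `Ω₇(3)` under `SO₇(3)` (helper235)

`classes` : the 52 classes of `SO₇(3)` contained in `Ω₇(3)`; `all_H8` : a property of the elements of `H8` (the
presented group isomorphic to `PΩ₇(3)`) which is invariant under automorphisms holds everywhere if it holds for the
representatives.
-/

set_option autoImplicit false
set_option maxRecDepth 100000

namespace Cfsg.Agent.H235.QS.O7L

open Cfsg.Agent.H235.Ore.Eng Cfsg.Agent.H235.QS.O7C Subgroup Equiv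
open Cfsg.Agent.H235.QS.O7M hiding x13 o13
open Cfsg.Agent.Fischer.Derived Cfsg.Agent.Fischer.Y322

/-! ### The two classes of elements of order 13 -/

theorem x45_eq : wd x45 = wd x44 ^ 2 := by
  rw [pow_two, ← wd_append]
  rfl

theorem nc : ncOk 378 R (pw x44) 13 2 1 0 [(1, 1), (2, 1), (4, 1)] [] [] = true := by decide +kernel

theorem not_conj : ¬ IsConj (w2 x44) (w2 x45) := by
  intro k
  obtain ⟨c, hc⟩ := isConj_iff.1 k
  refine not_pow_of (pv_pw x44) nc (by rw [← o44, pow_orderOf_eq_one]) (G := M2) (fun g hg => R_inv (M2_le hg))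
    (K0_le_M2 (wd_mem _)) c.2 ?_
  rw [← x45_eq]
  exact congrArg Subtype.val hc

/-! ### The list -/

open Classical in
/-- order, fixed points, adjacencies, fixed points of the square, a bit -/
noncomputable def inv (g : ↥M2) : ℕ × ℕ × ℕ × ℕ × ℕ :=
  (orderOf (g : Perm (Fin 378)), fixN (g : Perm (Fin 378)), adjN R (g : Perm (Fin 378)),
    fixN ((g : Perm (Fin 378)) ^ 2), if IsConj (w2 x44) g then 1 else 0)

theorem inv_conj {g h : ↥M2} (k : IsConj g h) : inv g = inv h := by
  unfold inv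
  have h1 : IsConj (w2 x44) g ↔ IsConj (w2 x44) h := ⟨fun t => t.trans k, fun t => t.trans k.symm⟩
  obtain ⟨c, hc⟩ := isConj_iff.1 k
  have e : (h : Perm (Fin 378)) = (c : Perm (Fin 378)) * g * (c : Perm (Fin 378))⁻¹ := by rw [← hc]; rfl
  have h2 : orderOf (g : Perm (Fin 378)) = orderOf (h : Perm (Fin 378)) := by
    rw [e]
    exact ((MulAut.conj (c : Perm (Fin 378))).orderOf_eq (g : Perm (Fin 378))).symm
  have h3 : fixN (g : Perm (Fin 378)) = fixN (h : Perm (Fin 378)) := by
    rw [e]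
    exact (fixN_conj (c : Perm (Fin 378)) g).symm
  have h4 : adjN R (g : Perm (Fin 378)) = adjN R (h : Perm (Fin 378)) := by
    rw [e]
    exact (adjN_conj (R_inv (M2_le c.2)) g).symm
  have h5 : fixN ((g : Perm (Fin 378)) ^ 2) = fixN ((h : Perm (Fin 378)) ^ 2) := by
    rw [e, conj_pow]
    exact (fixN_conj (c : Perm (Fin 378)) _).symm
  rw [h2, h3, h4, h5]
  by_cases t : IsConj (w2 x44) g
  · rw [if_pos t, if_pos (h1.1 t)]
  · rw [if_neg t, if_neg fun k => t (h1.2 k)]

noncomputable def invC : ConjClasses ↥M2 → ℕ × ℕ × ℕ × ℕ × ℕ := Quotient.lift inv fun _ _ h => inv_conj h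

theorem inv_w2' {X : List ℕ} {o f a g : ℕ} (ho : orderOf (wd X) = o) (hf : fixN (wd X) = f) (ha : adjN R (wd X) = a)
    (hg : fixN (wd X ^ 2) = g) (h1 : ¬ IsConj (w2 x44) (w2 X)) : inv (w2 X) = (o, f, a, g, 0) := by
  show (orderOf (wd X), fixN (wd X), adjN R (wd X), fixN (wd X ^ 2), _) = _
  rw [ho, hf, ha, hg, if_neg h1]

theorem inv_w2 {X : List ℕ} {o f a g : ℕ} (ho : orderOf (wd X) = o) (hf : fixN (wd X) = f) (ha : adjN R (wd X) = a)
    (hg : fixN (wd X ^ 2) = g) (h : o ≠ 13) : inv (w2 X) = (o, f, a, g, 0) := by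
  refine inv_w2' ho hf ha hg fun k => ?_
  have h2 := congrArg Prod.fst (inv_conj k)
  have h3 : orderOf (wd x44) = orderOf (wd X) := h2
  rw [o44, ho] at h3
  exact h h3.symm

/-- the list of the classes with the orders of the centralizers -/
noncomputable def L : List (↥M2 × ℕ) :=
  [(1, Nat.card ↥M2), (w2 x44, 26), (w2 x01, 27648), (w2 x02, 414720), (w2 x03, 26127360), (w2 x04, 17496), (w2 x05, 5832), (w2 x06, 2916), (w2 x07, 279936), (w2 x08, 349920), (w2 x09, 1259712), (w2 x10, 768), (w2 x11, 384), (w2 x12, 2304), (w2 x13, 5760), (w2 x14, 240), (w2 x15, 216), (w2 x16, 648), (w2 x17, 108), (w2 x18, 5184), (w2 x19, 108), (w2 x20, 864), (w2 x21, 1728), (w2 x22, 864), (w2 x23, 1728), (w2 x24, 864), (w2 x25, 7776), (w2 x26, 3456), (w2 x27, 7776), (w2 x28, 46656), (w2 x29, 28), (w2 x30, 32), (w2 x31, 32), (w2 x32, 27), (w2 x33, 324), (w2 x34, 648), (w2 x35, 40), (w2 x36, 80), (w2 x37, 36), (w2 x38, 288), (w2 x39, 48), (w2 x40, 144), (w2 x41, 96), (w2 x42, 144),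 (w2 x43, 288), (w2 x45, 26), (w2 x46, 28), (w2 x47, 30), (w2 x48, 108), (w2 x49, 72), (w2 x50, 108), (w2 x51, 40)]

def V : List (ℕ × ℕ × ℕ × ℕ × ℕ) := [(1, 378, 0, 378, 0), (13, 1, 117, 1, 1), (2, 18, 72, 378, 0), (2, 38, 180, 378, 0), (2, 126, 252, 378, 0), (3, 0, 0, 0, 0), (3, 0, 162, 0, 0), (3, 9, 81, 9, 0), (3, 36, 0, 36, 0), (3, 45, 243, 45, 0), (3, 54, 0, 54, 0), (4, 2, 144, 18, 0), (4, 4, 126, 38, 0), (4, 6, 108, 18, 0), (4, 16, 162, 38, 0), (5, 3, 135, 3, 0), (6, 0, 72, 0, 0), (6, 0, 90, 0, 0), (6, 0, 126, 0, 0), (6, 2, 180, 54, 0), (6, 3, 99, 9, 0), (6, 5, 99, 45, 0), (6, 6, 72, 54, 0), (6, 6, 126, 36, 0), (6, 8, 180, 36, 0), (6, 9, 99, 45, 0), (6, 9, 171, 45, 0), (6, 12, 72, 36, 0), (6, 18, 90, 36, 0), (6, 18, 252, 54, 0), (7, 0, 126, 0, 0), (8, 0, 126, 2, 0), (8, 2, 108, 6, 0), (9, 0, 108, 0, 0), (9, 3, 81, 3, 0), (9, 6, 162, 6, 0), (10, 1, 117, 3, 0), (10, 3, 135, 3, 0), (12, 0, 108, 0, 0), (12, 0, 108, 12, 0), (12, 1, 99, 5, 0), (12, 1, 135, 5,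 0), (12, 2, 144, 6, 0), (12, 4, 108, 8, 0), (12, 6, 108, 6, 0), (13, 1, 117, 1, 0), (14, 0, 126, 0, 0), (15, 0, 108, 0, 0), (18, 0, 144, 6, 0), (18, 2, 126, 6, 0), (18, 3, 117, 3, 0), (20, 1, 117, 3, 0)]

theorem L_inv : L.map (fun p => inv p.1) = V := by
  have h1 : inv 1 = (1, 378, 0, 378, 0) := inv_w2 (X := []) (by rw [wd_nil, orderOf_one])
    (by rw [wd_nil]; exact fixN_eq_n.2 rfl)
    (by rw [wd_nil, adjN_val (f := fun i => i) (fun i => rfl)]; decide +kernel)
    (by rw [wd_nil, one_pow]; exact fixN_eq_n.2 rfl) (by norm_num)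
  have h2 : inv (w2 x44) = (13, 1, 117, 1, 1) := by
    show (orderOf (wd x44), fixN (wd x44), adjN R (wd x44), fixN (wd x44 ^ 2), _) = _
    rw [o44, f44, a44, g44, if_pos (IsConj.refl _)]
  simp only [L, V, List.map_cons, List.map_nil, h1, h2]
  rw [inv_w2 o01 f01 a01 g01 (by norm_num),
    inv_w2 o02 f02 a02 g02 (by norm_num),
    inv_w2 o03 f03 a03 g03 (by norm_num),
    inv_w2 o04 f04 a04 g04 (by norm_num),
    inv_w2 o05 f05 a05 g05 (by norm_num),
    inv_w2 o06 f06 a06 g06 (by norm_num),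
    inv_w2 o07 f07 a07 g07 (by norm_num),
    inv_w2 o08 f08 a08 g08 (by norm_num),
    inv_w2 o09 f09 a09 g09 (by norm_num),
    inv_w2 o10 f10 a10 g10 (by norm_num),
    inv_w2 o11 f11 a11 g11 (by norm_num),
    inv_w2 o12 f12 a12 g12 (by norm_num),
    inv_w2 o13 f13 a13 g13 (by norm_num),
    inv_w2 o14 f14 a14 g14 (by norm_num),
    inv_w2 o15 f15 a15 g15 (by norm_num),
    inv_w2 o16 f16 a16 g16 (by norm_num),
    inv_w2 o17 f17 a17 g17 (by norm_num),
    inv_w2 o18 f18 a18 g18 (by norm_num),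
    inv_w2 o19 f19 a19 g19 (by norm_num),
    inv_w2 o20 f20 a20 g20 (by norm_num),
    inv_w2 o21 f21 a21 g21 (by norm_num),
    inv_w2 o22 f22 a22 g22 (by norm_num),
    inv_w2 o23 f23 a23 g23 (by norm_num),
    inv_w2 o24 f24 a24 g24 (by norm_num),
    inv_w2 o25 f25 a25 g25 (by norm_num),
    inv_w2 o26 f26 a26 g26 (by norm_num),
    inv_w2 o27 f27 a27 g27 (by norm_num),
    inv_w2 o28 f28 a28 g28 (by norm_num),
    inv_w2 o29 f29 a29 g29 (by norm_num),
    inv_w2 o30 f30 a30 g30 (by norm_num),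
    inv_w2 o31 f31 a31 g31 (by norm_num),
    inv_w2 o32 f32 a32 g32 (by norm_num),
    inv_w2 o33 f33 a33 g33 (by norm_num),
    inv_w2 o34 f34 a34 g34 (by norm_num),
    inv_w2 o35 f35 a35 g35 (by norm_num),
    inv_w2 o36 f36 a36 g36 (by norm_num),
    inv_w2 o37 f37 a37 g37 (by norm_num),
    inv_w2 o38 f38 a38 g38 (by norm_num),
    inv_w2 o39 f39 a39 g39 (by norm_num),
    inv_w2 o40 f40 a40 g40 (by norm_num),
    inv_w2 o41 f41 a41 g41 (by norm_num),
    inv_w2 o42 f42 a42 g42 (by norm_num),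
    inv_w2 o43 f43 a43 g43 (by norm_num),
    inv_w2' o45 f45 a45 g45 not_conj,
    inv_w2 o46 f46 a46 g46 (by norm_num),
    inv_w2 o47 f47 a47 g47 (by norm_num),
    inv_w2 o48 f48 a48 g48 (by norm_num),
    inv_w2 o49 f49 a49 g49 (by norm_num),
    inv_w2 o50 f50 a50 g50 (by norm_num),
    inv_w2 o51 f51 a51 g51 (by norm_num)]

theorem L_nodup : (L.map fun p => ConjClasses.mk p.1).Nodup := by
  apply List.Nodup.of_map invC
  rw [List.map_map]
  have h : L.map (invC ∘ fun p => ConjClasses.mk p.1) = V := L_inv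
  rw [h]
  decide +kernel

theorem L_cent : ∀ p ∈ L, Nat.card ↥(centralizer ({p.1} : Set ↥M2)) ≤ p.2 := by
  have h1 : Nat.card ↥(centralizer ({1} : Set ↥M2)) ≤ Nat.card ↥M2 :=
    Nat.le_of_dvd Nat.card_pos (Subgroup.card_subgroup_dvd_card _)
  intro p hp
  simp only [L, List.mem_cons, List.not_mem_nil, or_false] at hp
  rcases hp with rfl | rfl | rfl | rfl | rfl | rfl | rfl | rfl | rfl | rfl | rfl | rfl | rfl | rfl | rfl | rfl | rfl | rfl | rfl | rfl | rfl | rfl | rfl | rfl | rfl | rfl | rfl | rfl | rfl | rfl | rfl | rfl | rfl | rfl | rfl | rfl | rfl | rfl | rfl | rfl | rfl | rfl | rfl | rfl | rfl | rfl | rfl | rfl | rfl | rfl | rfl | rfl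
  · exact h1
  · exact b44
  · exact b01
  · exact b02
  · exact b03
  · exact b04
  · exact b05
  · exact b06
  · exact b07
  · exact b08
  · exact b09
  · exact b10
  · exact b11
  · exact b12
  · exact b13
  · exact b14
  · exact b15
  · exact b16
  · exact b17
  · exact b18
  · exact b19
  · exact b20
  · exact b21
  · exact b22
  · exact b23
  · exact b24
  · exact b25
  · exact b26
  · exact b27
  · exact b28
  · exact b29
  · exact b30
  · exact b31
  · exact b32
  · exact b33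
  · exact b34
  · exact b35
  · exact b36
  · exact b37
  · exact b38
  · exact b39
  · exact b40
  · exact b41
  · exact b42
  · exact b43
  · exact b45
  · exact b46
  · exact b47
  · exact b48
  · exact b49
  · exact b50
  · exact b51

theorem L_mem : ∀ p ∈ L, p.1 ∈ K := by
  intro p hp
  simp only [L, List.mem_cons, List.not_mem_nil, or_false] at hp
  rcases hp with rfl | h
  · exact one_mem _
  · obtain ⟨X, hX⟩ : ∃ X, p.1 = w2 X := by
      rcases h with rfl | rfl | rfl | rfl | rfl | rfl | rfl | rfl | rfl | rfl | rfl | rfl | rfl | rfl | rfl | rfl | rfl | rfl | rfl | rfl | rfl | rfl | rfl | rfl | rfl | rfl | rfl | rfl | rfl | rfl | rfl | rfl | rfl | rfl | rfl | rfl | rfl | rfl | rfl | rfl | rfl | rfl | rfl | rfl | rfl | rfl | rfl | rfl | rfl | rfl | rfl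
      all_goals exact ⟨_, rfl⟩
    rw [hX]
    exact w2_mem _

theorem classes {g : ↥M2} (hg : g ∈ K) : ∃ p ∈ L, IsConj p.1 g := by
  refine complete K L L_mem L_cent L_nodup ?_ hg
  rw [card_K]
  simp only [L, List.map_cons, List.map_nil, List.sum_cons, List.sum_nil]
  rw [Nat.div_self Nat.card_pos]
  have h := fun b : ℕ => Nat.div_le_div_right (c := b) card_M2
  generalize Nat.card ↥M2 = N at h ⊢
  refine le_trans (b := 1 + (9170703360 / 26 + (9170703360 / 27648 + (9170703360 / 414720 + (9170703360 / 26127360 + (9170703360 / 17496 + (9170703360 / 5832 + (9170703360 / 2916 + (9170703360 / 279936 + (9170703360 / 349920 + (9170703360 / 1259712 + (9170703360 / 768 + (9170703360 / 384 + (9170703360 / 2304 + (9170703360 / 5760 + (9170703360 / 240 + (9170703360 / 216 + (9170703360 / 648 + (9170703360 / 108 + (9170703360 / 5184 + (9170703360 / 108 + (9170703360 / 864 + (9170703360 / 1728 + (9170703360 / 864 + (9170703360 / 1728 + (9170703360 / 864 + (9170703360 /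 7776 + (9170703360 / 3456 + (9170703360 / 7776 + (9170703360 / 46656 + (9170703360 / 28 + (9170703360 / 32 + (9170703360 / 32 + (9170703360 / 27 + (9170703360 / 324 + (9170703360 / 648 + (9170703360 / 40 + (9170703360 / 80 + (9170703360 / 36 + (9170703360 / 288 + (9170703360 / 48 + (9170703360 / 144 + (9170703360 / 96 + (9170703360 / 144 + (9170703360 / 288 + (9170703360 / 26 + (9170703360 / 28 + (9170703360 / 30 + (9170703360 / 108 + (9170703360 / 72 + (9170703360 / 108 + (9170703360 / 40 + 0)))))))))))))))))))))))))))))))))))))))))))))))))))) (by norm_num) ?_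
  exact Nat.add_le_add le_rfl (Nat.add_le_add (h _) (Nat.add_le_add (h _) (Nat.add_le_add (h _) (Nat.add_le_add (h _) (Nat.add_le_add (h _) (Nat.add_le_add (h _) (Nat.add_le_add (h _) (Nat.add_le_add (h _) (Nat.add_le_add (h _) (Nat.add_le_add (h _) (Nat.add_le_add (h _) (Nat.add_le_add (h _) (Nat.add_le_add (h _) (Nat.add_le_add (h _) (Nat.add_le_add (h _) (Nat.add_le_add (h _) (Nat.add_le_add (h _) (Nat.add_le_add (h _) (Nat.add_le_add (h _) (Nat.add_le_add (h _) (Nat.add_le_add (h _) (Nat.add_le_add (h _) (Nat.add_le_add (h _) (Nat.add_le_add (h _) (Nat.add_le_add (h _) (Nat.add_le_add (h _) (Nat.add_le_add (h _) (Nat.add_le_add (h _) (Nat.add_le_add (h _) (Nat.add_le_add (h _) (Nat.add_le_add (h _) (Nat.add_le_add (h _) (Nat.add_le_add (h _) (Nat.add_le_add (h _) (Nat.add_le_add (h _) (Nat.add_le_add (h _) (Nat.add_le_add (h _) (Nat.add_le_add (h _) (Nat.add_le_add (h _) (Nat.add_le_add (h _) (Nat.add_le_add (h _) (Nat.add_le_add (h _) (Nat.add_le_add (h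 _) (Nat.add_le_add (h _) (Nat.add_le_add (h _) (Nat.add_le_add (h _) (Nat.add_le_add (h _) (Nat.add_le_add (h _) (Nat.add_le_add (h _) (Nat.add_le_add (h _) (Nat.add_le_add (h _) le_rfl)))))))))))))))))))))))))))))))))))))))))))))))))))

/-! ### The presented group -/

/-- the element of `H8` of a word -/
def el (X : List ℕ) : H8 := (X.map fun k => x8 ⟨Nat.mod k 8, Nat.mod_lt _ (by norm_num)⟩).prod

theorem el_nil : el [] = 1 := rfl
theorem el_append (v w : List ℕ) : el (v ++ w) = el v * el w := by unfold el; rw [List.map_append, List.prod_append]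

theorem ψ_el (X : List ℕ) : ψ (el X) = wd X := by
  unfold el wd
  rw [map_list_prod, List.map_map]
  congr 1

theorem el_eq {X Y : List ℕ} (h : chkB X Y = true) : el X = el Y := by
  apply ψ_injective
  rw [ψ_el, ψ_el, eq_of_chkB h]

theorem el_reverse (w : List ℕ) : el w.reverse = (el w)⁻¹ := by
  apply ψ_injective
  rw [map_inv, ψ_el, ψ_el, wd_reverse]

theorem el_val (w : List (Fin 8)) : el (w.map Fin.val) = ev x8 w := by
  unfold el
  rw [ev, List.map_map]
  congr 1
  refine List.map_congr_left fun k _ => ?_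
  show x8 _ = x8 k
  exact congrArg x8 (Fin.ext (Nat.mod_eq_of_lt k.2))

/-- conjugation by `m` as an automorphism of `K0` -/
def cj (m : ↥M2) : ↥K0 ≃* ↥K0 where
  toFun g := ⟨m * g * (m : Perm (Fin 378))⁻¹, conj_mem m.2 g.2⟩
  invFun g := ⟨(m : Perm (Fin 378))⁻¹ * g * m, by
    have h := conj_mem (inv_mem m.2) g.2
    rwa [inv_inv] at h⟩
  left_inv g := Subtype.ext (by
    show (m : Perm (Fin 378))⁻¹ * (m * g * (m : Perm (Fin 378))⁻¹) * m = g
    group)
  right_inv g := Subtype.ext (by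
    show (m : Perm (Fin 378)) * ((m : Perm (Fin 378))⁻¹ * g * m) * (m : Perm (Fin 378))⁻¹ = g
    group)
  map_mul' a b := Subtype.ext (by
    show (m : Perm (Fin 378)) * (a * b) * (m : Perm (Fin 378))⁻¹ =
      (m * a * (m : Perm (Fin 378))⁻¹) * (m * b * (m : Perm (Fin 378))⁻¹)
    group)

/-- **Properties invariant under automorphisms hold everywhere if they hold for the representatives.** -/
theorem all_H8 (P : H8 → Prop) (hP : ∀ (α : H8 ≃* H8) (g : H8), P (α g) → P g) (h1 : P 1)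
    (h01 : P (el x01)) (h02 : P (el x02)) (h03 : P (el x03)) (h04 : P (el x04)) (h05 : P (el x05)) (h06 : P (el x06)) (h07 : P (el x07)) (h08 : P (el x08)) (h09 : P (el x09)) (h10 : P (el x10)) (h11 : P (el x11)) (h12 : P (el x12)) (h13 : P (el x13)) (h14 : P (el x14)) (h15 : P (el x15)) (h16 : P (el x16)) (h17 : P (el x17)) (h18 : P (el x18)) (h19 : P (el x19)) (h20 : P (el x20)) (h21 : P (el x21)) (h22 : P (el x22)) (h23 : P (el x23)) (h24 : P (el x24)) (h25 : P (el x25)) (h26 : P (el x26)) (h27 : P (el x27)) (h28 : P (el x28)) (h29 : P (el x29)) (h30 : P (el x30)) (h31 : P (el x31)) (h32 : P (el x32)) (h33 : P (el x33)) (h34 : P (el x34)) (h35 : P (el x35)) (h36 : P (el x36)) (h37 : P (el x37)) (h38 : P (el x38)) (h39 : P (el x39)) (h40 : P (el x40)) (h41 : P (el x41)) (h42 : P (el x42)) (h43 : P (el x43)) (h44 : P (el x44)) (h45 : P (el x45)) (h46 : P (el x46)) (h47 : P (el x47)) (h48 : P (el x48)) (h49 : P (el x49)) (h50 : P (el x50)) (h51 : P (el x51))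 (g : H8) : P g := by
  obtain ⟨p, hp, hpg⟩ := classes (g := ⟨ψ g, K0_le_M2 (iso g).2⟩) (by rw [K, mem_subgroupOf]; exact (iso g).2)
  obtain ⟨c, hc⟩ := isConj_iff.1 hpg.symm
  have key : ∀ X : List ℕ, wd X = p.1 → P (el X) → P g := by
    intro X hX h
    refine hP ((iso.trans (cj c)).trans iso.symm) g ?_
    have e : ((iso.trans (cj c)).trans iso.symm) g = el X := by
      show iso.symm (cj c (iso g)) = el X
      rw [MulEquiv.symm_apply_eq]
      apply Subtype.ext
      show (c : Perm (Fin 378)) * ψ g * (c : Perm (Fin 378))⁻¹ = ψ (el X)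
      rw [ψ_el, hX]
      exact congrArg Subtype.val hc
    rw [e]
    exact h
  simp only [L, List.mem_cons, List.not_mem_nil, or_false] at hp
  rcases hp with rfl | rfl | rfl | rfl | rfl | rfl | rfl | rfl | rfl | rfl | rfl | rfl | rfl | rfl | rfl | rfl | rfl | rfl | rfl | rfl | rfl | rfl | rfl | rfl | rfl | rfl | rfl | rfl | rfl | rfl | rfl | rfl | rfl | rfl | rfl | rfl | rfl | rfl | rfl | rfl | rfl | rfl | rfl | rfl | rfl | rfl | rfl | rfl | rfl | rfl | rfl | rfl
  · exact key [] rfl h1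
  · exact key _ rfl h44
  · exact key _ rfl h01
  · exact key _ rfl h02
  · exact key _ rfl h03
  · exact key _ rfl h04
  · exact key _ rfl h05
  · exact key _ rfl h06
  · exact key _ rfl h07
  · exact key _ rfl h08
  · exact key _ rfl h09
  · exact key _ rfl h10
  · exact key _ rfl h11
  · exact key _ rfl h12
  · exact key _ rfl h13
  · exact key _ rfl h14
  · exact key _ rfl h15
  · exact key _ rfl h16
  · exact key _ rfl h17
  · exact key _ rfl h18
  · exact key _ rfl h19
  · exact key _ rfl h20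
  · exact key _ rfl h21
  · exact key _ rfl h22
  · exact key _ rfl h23
  · exact key _ rfl h24
  · exact key _ rfl h25
  · exact key _ rfl h26
  · exact key _ rfl h27
  · exact key _ rfl h28
  · exact key _ rfl h29
  · exact key _ rfl h30
  · exact key _ rfl h31
  · exact key _ rfl h32
  · exact key _ rfl h33
  · exact key _ rfl h34
  · exact key _ rfl h35
  · exact key _ rfl h36
  · exact key _ rfl h37
  · exact key _ rfl h38
  · exact key _ rfl h39
  · exact key _ rfl h40
  · exact key _ rfl h41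
  · exact key _ rfl h42
  · exact key _ rfl h43
  · exact key _ rfl h45
  · exact key _ rfl h46
  · exact key _ rfl h47
  · exact key _ rfl h48
  · exact key _ rfl h49
  · exact key _ rfl h50
  · exact key _ rfl h51

/-- the representatives -/
def xs : List (List ℕ) := [x01, x02, x03, x04, x05, x06, x07, x08, x09, x10, x11, x12, x13, x14, x15, x16, x17, x18, x19, x20, x21, x22, x23, x24, x25, x26, x27, x28, x29, x30, x31, x32, x33, x34, x35, x36, x37, x38, x39, x40, x41, x42, x43, x44, x45, x46, x47, x48, x49, x50, x51]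

/-- **the classes of `H8` under automorphisms** -/
theorem cover (g : H8) : g = 1 ∨ ∃ X ∈ xs, ∃ α : H8 ≃* H8, α g = el X := by
  have m : ∀ X ∈ xs, (el X = 1 ∨ ∃ Y ∈ xs, ∃ α : H8 ≃* H8, α (el X) = el Y) :=
    fun X hX => Or.inr ⟨X, hX, MulEquiv.refl H8, rfl⟩
  refine all_H8 (fun g => g = 1 ∨ ∃ X ∈ xs, ∃ α : H8 ≃* H8, α g = el X) (fun α g h => ?_) (Or.inl rfl)
    (m x01 (by simp [xs]))
    (m x02 (by simp [xs]))
    (m x03 (by simp [xs]))
    (m x04 (by simp [xs]))
    (m x05 (by simp [xs]))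
    (m x06 (by simp [xs]))
    (m x07 (by simp [xs]))
    (m x08 (by simp [xs]))
    (m x09 (by simp [xs]))
    (m x10 (by simp [xs]))
    (m x11 (by simp [xs]))
    (m x12 (by simp [xs]))
    (m x13 (by simp [xs]))
    (m x14 (by simp [xs]))
    (m x15 (by simp [xs]))
    (m x16 (by simp [xs]))
    (m x17 (by simp [xs]))
    (m x18 (by simp [xs]))
    (m x19 (by simp [xs]))
    (m x20 (by simp [xs]))
    (m x21 (by simp [xs]))
    (m x22 (by simp [xs]))
    (m x23 (by simp [xs]))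
    (m x24 (by simp [xs]))
    (m x25 (by simp [xs]))
    (m x26 (by simp [xs]))
    (m x27 (by simp [xs]))
    (m x28 (by simp [xs]))
    (m x29 (by simp [xs]))
    (m x30 (by simp [xs]))
    (m x31 (by simp [xs]))
    (m x32 (by simp [xs]))
    (m x33 (by simp [xs]))
    (m x34 (by simp [xs]))
    (m x35 (by simp [xs]))
    (m x36 (by simp [xs]))
    (m x37 (by simp [xs]))
    (m x38 (by simp [xs]))
    (m x39 (by simp [xs]))
    (m x40 (by simp [xs]))
    (m x41 (by simp [xs]))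
    (m x42 (by simp [xs]))
    (m x43 (by simp [xs]))
    (m x44 (by simp [xs]))
    (m x45 (by simp [xs]))
    (m x46 (by simp [xs]))
    (m x47 (by simp [xs]))
    (m x48 (by simp [xs]))
    (m x49 (by simp [xs]))
    (m x50 (by simp [xs]))
    (m x51 (by simp [xs])) g
  rcases h with h | ⟨X, hX, β, h⟩
  · exact Or.inl ((map_eq_one_iff α α.injective).1 h)
  · exact Or.inr ⟨X, hX, α.trans β, h⟩

end Cfsg.Agent.H235.QS.O7L
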